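import Cfsg.Agent.OddOrder.BG4.Aut2
import Cfsg.Agent.OddOrder.BG4.Metacyclic
import Cfsg.Agent.PLocal.Thompson

/-!
# Derived automorphisms of a `p`-group with a maximal elementary subgroup of order `p²`

If `R` (`p` odd) has a maximal elementary abelian subgroup of order `p²`, then a solvable group of
odd order induces on `R` automorphisms whose commutators of order prime to `p` are trivial. This is
the part of BG 5.5 used in BG 9.5.
-/

set_option autoImplicit false
set_option linter.style.haveILetI false

namespace CfsgLib.OddOrder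

open Cfsg Subgroup
open scoped commutatorElement

variable {R : Type*} [Group R] [Finite R] {p : ℕ} [Fact p.Prime]
variable {A : Type*} [Group A] [Finite A]

/-- A derived automorphism of coprime order fixes a subgroup with a characteristic series of
factors of order at most `p`, here obtained from an element with a small centralizer. -/
theorem fix_of_small_centralizer (hR : IsPGroup p R) (φ : A →* MulAut R) {a : A}
    (ha : a ∈ commutator A) (hco : (orderOf (φ a)).Coprime p) {e : R} {D : Subgroup R}
    [D.Characteristic] (hD : Nat.card ↥(D ⊓ centralizer ({e} : Set R)) ≤ p) :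
    ∀ x ∈ D, φ a x = x := by
  haveI := hR.isNilpotent
  generalize hn : Nat.card D = n
  induction n using Nat.strong_induction_on generalizing D with
  | _ n ih =>
  intro x hx
  by_cases hbot : D = ⊥
  · rw [hbot, mem_bot] at hx
    rw [hx, map_one]
  set D' := ⁅D, (⊤ : Subgroup R)⁆ with hD'
  haveI : D'.Characteristic := Subgroup.commutator_characteristic D ⊤
  have hle : D' ≤ D := commutator_le_left D ⊤
  have hlt : D' < D := lt_of_le_of_ne hle fun h =>
    hbot (BG4.eq_bot_of_le_commutator_top h.ge)
  have ih' := ih (Nat.card D') (hn ▸ Set.ncard_lt_ncard hlt (Set.toFinite _)) (D := D')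
    (le_trans (card_le_of_le (inf_le_inf_right _ hle)) hD) rfl
  -- `D'` has index at most `p` in `D`
  set W := D'.subgroupOf D with hW
  haveI : W.Normal := inferInstance
  have hidx : Nat.card (D ⧸ W) ≤ p := by
    set K := (centralizer ({e} : Set R)).subgroupOf D with hK
    have hinj : Nat.card (D ⧸ K) ≤ Nat.card D' := by
      let f : D ⧸ K → D' := Quotient.lift
        (fun y : D => (⟨⁅(y : R), e⁆, commutator_mem_commutator y.2 (mem_top e)⟩ : D'))
        (fun y z h => by
          replace h := QuotientGroup.leftRel_apply.1 h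
          rw [hK, mem_subgroupOf, mem_centralizer_singleton_iff] at h
          refine Subtype.ext ?_
          push_cast at h
          show ⁅(y : R), e⁆ = ⁅(z : R), e⁆
          calc ⁅(y : R), e⁆ = (y : R) * (((y : R)⁻¹ * z) * e) * (z : R)⁻¹ * e⁻¹ := by
                rw [h, commutatorElement_def]; group
            _ = ⁅(z : R), e⁆ := by rw [commutatorElement_def]; group)
      refine Nat.card_le_card_of_injective f fun u v h => ?_
      induction u using QuotientGroup.induction_on with
      | H y =>
      induction v using QuotientGroup.induction_on with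
      | H z =>
      rw [QuotientGroup.eq, hK, mem_subgroupOf, mem_centralizer_singleton_iff]
      have h' : (y : R) * e * (y : R)⁻¹ = (z : R) * e * (z : R)⁻¹ :=
        mul_right_cancel (congrArg Subtype.val h : ⁅(y : R), e⁆ = ⁅(z : R), e⁆)
      push_cast
      calc (y : R)⁻¹ * z * e = (y : R)⁻¹ * ((z : R) * e * (z : R)⁻¹) * z := by group
        _ = e * ((y : R)⁻¹ * z) := by rw [← h']; group
    have h1 : Nat.card D = Nat.card (D ⧸ K) * Nat.card K := card_eq_card_quotient_mul_card_subgroup K
    have h2 : Nat.card K ≤ p := by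
      rw [hK, ← card_map_of_injective D.subtype_injective, subgroupOf_map_subtype, inf_comm]
      exact hD
    have h3 : Nat.card D = Nat.card (D ⧸ W) * Nat.card W := card_eq_card_quotient_mul_card_subgroup W
    have h4 : Nat.card W = Nat.card D' := Nat.card_congr (subgroupOfEquivOfLe hle).toEquiv
    have hpos : 0 < Nat.card D' := Nat.card_pos
    refine Nat.le_of_mul_le_mul_right ?_ hpos
    rw [← h4, ← h3, h1, h4, mul_comm p]
    exact Nat.mul_le_mul hinj h2
  haveI : IsCyclic (D ⧸ W) := by
    obtain ⟨k, hk⟩ := IsPGroup.iff_card.1 ((hR.to_subgroup D).to_quotient W)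
    rw [hk] at hidx
    have : k ≤ 1 := (Nat.pow_le_pow_iff_right (Fact.out : p.Prime).one_lt).1 (by rwa [pow_one])
    interval_cases k
    · haveI : Subsingleton (D ⧸ W) := (Nat.card_eq_one_iff_unique.1 (by simpa using hk)).1
      infer_instance
    · exact isCyclic_of_prime_card (p := p) (by simpa using hk)
  have hmap : ∀ b : MulAut R, W.map (MulAut.characteristic D b).toMonoidHom = W := by
    intro b
    refine eq_of_le_of_card_ge ?_ (by rw [card_map_of_injective (MulEquiv.injective _)])
    rintro _ ⟨w, hw, rfl⟩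
    exact (characteristic_iff_le_comap.1 inferInstance b (mem_subgroupOf.1 hw) : b (w : R) ∈ D')
  let ψ : A →* MulAut (D ⧸ W) :=
    { toFun := fun b => QuotientGroup.congr W W (MulAut.characteristic D (φ b)) (hmap _)
      map_one' := by
        ext u
        obtain ⟨y, rfl⟩ := QuotientGroup.mk_surjective u
        simp
      map_mul' := fun b c => by
        ext u
        obtain ⟨y, rfl⟩ := QuotientGroup.mk_surjective u
        simp only [map_mul, MulAut.mul_apply]
        rfl }
  have hker : commutator A ≤ ψ.ker := by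
    rw [commutator_eq_closure, Subgroup.closure_le]
    rintro _ ⟨g, h, rfl⟩
    rw [SetLike.mem_coe, MonoidHom.mem_ker, map_commutatorElement,
      commutatorElement_eq_one_iff_mul_comm]
    exact BG4.mulAut_comm_of_cyclic _ _
  have hc := DFunLike.congr_fun (MonoidHom.mem_ker.1 (hker ha)) ((⟨x, hx⟩ : D) : D ⧸ W)
  have hc' : φ a x * x⁻¹ ∈ D' := by
    have := QuotientGroup.eq.1 hc.symm
    rw [mem_subgroupOf] at this
    have h' : x⁻¹ * φ a x ∈ D' := by simpa using this
    have hn' : D'.Normal := inferInstance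
    exact hn'.mem_comm h'
  set c := φ a x * x⁻¹ with hcdef
  have h := BG4.autPow_apply (ih' c hc') (by rw [hcdef]; group : φ a x = c * x) (orderOf (φ a))
  rw [pow_orderOf_eq_one, MulAut.one_apply] at h
  have h1 : orderOf c ∣ orderOf (φ a) := orderOf_dvd_of_pow_eq_one (by simpa using h.symm)
  obtain ⟨k, hk⟩ := IsPGroup.iff_orderOf.1 hR c
  have h2 : orderOf c = 1 := Nat.eq_one_of_dvd_coprimes (hco.pow_right k) h1 (hk ▸ dvd_rfl)
  exact mul_inv_eq_one.1 (orderOf_eq_one_iff.1 h2)

/-- Derived automorphisms of coprime order of a `p`-group with a maximal elementary abelian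
subgroup of order `p²` are trivial. -/
theorem eq_one_of_maximal_plane [Group.IsSolvable A] (hp2 : p ≠ 2) (hodd : Odd (Nat.card A))
    (hR : IsPGroup p R) {E : Subgroup R} (hE : Cfsg.IsElementaryAbelian p E)
    (hEc : Nat.card E = p ^ 2)
    (hmax : ∀ B : Subgroup R, Cfsg.IsElementaryAbelian p B → E ≤ B → B = E)
    (φ : A →* MulAut R) {a : A} (ha : a ∈ commutator A) (hco : (orderOf (φ a)).Coprime p) :
    φ a = 1 := by
  obtain ⟨C, hCchar, hCexp, hCclass, hCfix⟩ := BG4.exists_critical_exponent hp2 hR
  haveI := hCchar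
  refine hCfix _ hco ?_
  have habs : ∀ x : R, x ^ p = 1 → (∀ y ∈ E, y * x = x * y) → x ∈ E := by
    intro x hx hxE
    have hB : Cfsg.IsElementaryAbelian p (E ⊔ zpowers x : Subgroup R) :=
      PLocal.isElementaryAbelian_sup hE (PLocal.isElementaryAbelian_zpowers hx)
        (le_centralizer_iff.1 (zpowers_le.2 (mem_centralizer_iff.2 fun y hy => hxE y hy)))
    exact hmax _ hB le_sup_left ▸ mem_sup_right (mem_zpowers x)
  by_cases hCr : Cfsg.PRankLE p 2 C
  · -- rank at most two
    let χ : A →* MulAut C := (MulAut.characteristic C).comp φ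
    have hpg := BG4.isPGroup_map_commutator hp2 (hR.to_subgroup C) hCr hodd χ
    obtain ⟨k, hk⟩ := IsPGroup.iff_orderOf.1 hpg ⟨χ a, mem_map_of_mem χ ha⟩
    have hk' : orderOf (χ a) = p ^ k := by rwa [Subgroup.orderOf_mk] at hk
    have h1 : χ a = 1 := orderOf_eq_one_iff.1 (Nat.eq_one_of_dvd_coprimes (hco.pow_right k)
      (orderOf_map_dvd (MulAut.characteristic C) (φ a)) (hk' ▸ dvd_rfl))
    intro x hx
    exact congrArg Subtype.val (DFunLike.congr_fun h1 (⟨x, hx⟩ : C))
  obtain ⟨z, hz, hzc, hzo⟩ := BG4.exists_central_orderOf_prime hR (N := (⊤ : Subgroup R)) (by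
    intro h
    haveI : Subsingleton R := ⟨fun a b => by
      have h1 : ∀ g : R, g = 1 := fun g => mem_bot.1 (h ▸ mem_top g)
      rw [h1 a, h1 b]⟩
    have := card_le_card_group E
    rw [hEc, Nat.card_eq_one_iff_unique.2 ⟨inferInstance, inferInstance⟩] at this
    exact (Nat.one_lt_pow two_ne_zero (Fact.out : p.Prime).one_lt).not_ge this)
  have hzc' : ∀ g : R, g * z = z * g := mem_center_iff.1 hzc
  have hzE : z ∈ E := habs z (by rw [← hzo, pow_orderOf_eq_one]) fun y _ => hzc' y
  -- an element of `E` outside `⟨z⟩` commutes exactly with what centralizes `E`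
  have hgen : ∀ e ∈ E, e ∉ zpowers z → ∀ x : R, Commute x e → ∀ y ∈ E, y * x = x * y := by
    intro e he hez x hxe y hy
    set S := E ⊓ centralizer ({x} : Set R) with hS
    have hzS : zpowers z < S := by
      refine lt_of_le_of_ne (zpowers_le.2 ⟨hzE, mem_centralizer_singleton_iff.2 (hzc' x).symm⟩)
        fun h => hez (h ▸ ⟨he, mem_centralizer_singleton_iff.2 hxe.eq.symm⟩)
    have hSE : S = E := by
      by_contra hne
      have h1 : Nat.card (zpowers z) < Nat.card S := Set.ncard_lt_ncard hzS (Set.toFinite _)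
      have h2 : Nat.card S < Nat.card E :=
        Set.ncard_lt_ncard (lt_of_le_of_ne inf_le_left hne : S < E) (Set.toFinite _)
      rw [Nat.card_zpowers, hzo] at h1
      obtain ⟨k, hk⟩ := IsPGroup.iff_card.1 (hR.to_subgroup S)
      rw [hk] at h1 h2
      rw [hEc] at h2
      have h3 := (Nat.pow_lt_pow_iff_right (Fact.out : p.Prime).one_lt).1 (by rwa [pow_one] : p ^ 1 < p ^ k)
      have h4 := (Nat.pow_lt_pow_iff_right (Fact.out : p.Prime).one_lt).1 h2
      omega
    exact mem_centralizer_singleton_iff.1 (hSE ▸ hy : y ∈ S).2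
  -- some element of `E` lies outside `C` and `⟨z⟩`
  obtain ⟨e, heE, hez, heC⟩ : ∃ e ∈ E, e ∉ zpowers z ∧ e ∉ C := by
    by_contra hcon
    simp only [not_exists, not_and, not_not] at hcon
    obtain ⟨e, heE, hez⟩ := SetLike.exists_of_lt (lt_of_le_of_ne (zpowers_le.2 hzE) fun h => by
      have := congrArg (fun H : Subgroup R => Nat.card H) h
      simp only [Nat.card_zpowers, hzo, hEc] at this
      exact (Nat.pow_lt_pow_right (Fact.out : p.Prime).one_lt Nat.one_lt_two).ne (by rwa [pow_one]))
    have heC := hcon e heE hez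
    have hEC : E ≤ C := fun y hy => by
      by_cases hyz : y ∈ zpowers z
      · have h1 : y * e ∉ zpowers z := fun h => hez ((Subgroup.mul_mem_cancel_left _ hyz).1 h)
        exact (C.mul_mem_cancel_right heC).1 (hcon _ (mul_mem hy heE) h1)
      · exact hcon y hy hyz
    have hcomE : ∀ x ∈ C, ∀ y ∈ C, ⁅x, y⁆ ∈ E := fun x hx y hy =>
      habs _ (hCexp _ (by rw [commutatorElement_def]
                          exact mul_mem (mul_mem (mul_mem hx hy) (inv_mem hx)) (inv_mem hy)))
        fun w hw => (hCclass x hx y hy w (hEC hw)).eq.symm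
    set Z₁ := E ⊓ centralizer (C : Set R) with hZ₁
    refine hCr fun B hB hBp => ?_
    set B' := B.map C.subtype with hB'
    have hB'e : Cfsg.IsElementaryAbelian p B' := PLocal.isElementaryAbelian_map ⟨hB, hBp⟩ C.subtype
    have hBC : B' ≤ C := map_subtype_le _
    rw [← card_map_of_injective C.subtype_injective, ← hB']
    by_cases hEB : E ≤ B'
    · rw [hmax B' hB'e hEB, hEc]
    have hBE : Nat.card ↥(B' ⊓ E) ≤ p := by
      obtain ⟨k, hk⟩ := IsPGroup.iff_card.1 (hR.to_subgroup (B' ⊓ E))
      have h2 : Nat.card ↥(B' ⊓ E) < Nat.card E :=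
        Set.ncard_lt_ncard (lt_of_le_of_ne inf_le_right fun h => hEB (h ▸ inf_le_left) : B' ⊓ E < E)
          (Set.toFinite _)
      rw [hk, hEc] at h2
      rw [hk]
      exact (Nat.pow_le_pow_right (Fact.out : p.Prime).pos
        (Nat.lt_succ_iff.1 ((Nat.pow_lt_pow_iff_right (Fact.out : p.Prime).one_lt).1 h2))).trans
          (pow_one p).le
    by_cases heZ : ∀ x ∈ C, Commute x e
    · -- `E` is central in `C`
      have hCE : C ≤ E := fun x hx => habs x (hCexp x hx) (hgen e heE hez x (heZ x hx))
      calc Nat.card B' ≤ Nat.card E := card_le_of_le (hBC.trans hCE)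
        _ = p ^ 2 := hEc
    have hZ₁c : Nat.card Z₁ ≤ p := by
      obtain ⟨k, hk⟩ := IsPGroup.iff_card.1 (hR.to_subgroup Z₁)
      have h2 : Nat.card Z₁ < Nat.card E := by
        refine Set.ncard_lt_ncard (lt_of_le_of_ne inf_le_left fun h => heZ fun x hx => ?_ : Z₁ < E)
          (Set.toFinite _)
        exact mem_centralizer_iff.1 (h.ge heE).2 x hx
      rw [hk, hEc] at h2
      rw [hk]
      exact (Nat.pow_le_pow_right (Fact.out : p.Prime).pos
        (Nat.lt_succ_iff.1 ((Nat.pow_lt_pow_iff_right (Fact.out : p.Prime).one_lt).1 h2))).trans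
          (pow_one p).le
    have hB1 : Nat.card B' = Nat.card (B' ⧸ (B' ⊓ E).subgroupOf B') * Nat.card ↥(B' ⊓ E) := by
      rw [← Nat.card_congr (subgroupOfEquivOfLe (inf_le_left : B' ⊓ E ≤ B')).toEquiv]
      exact card_eq_card_quotient_mul_card_subgroup _
    have hcm : ∀ y ∈ B', ⁅y, e⁆ ∈ Z₁ := fun y hy =>
      ⟨hcomE y (hBC hy) e heC, mem_centralizer_iff.2 fun w hw =>
        (hCclass y (hBC hy) e heC w hw).eq.symm⟩
    let f : B' ⧸ (B' ⊓ E).subgroupOf B' → Z₁ := Quotient.lift
      (fun y : B' => (⟨⁅(y : R), e⁆, hcm y y.2⟩ : Z₁))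
      (fun y w h => by
        replace h := QuotientGroup.leftRel_apply.1 h
        rw [mem_subgroupOf] at h
        push_cast at h
        refine Subtype.ext ?_
        show ⁅(y : R), e⁆ = ⁅(w : R), e⁆
        haveI := hE.1
        have hc := setLike_mul_comm (s := E) h.2 heE
        calc ⁅(y : R), e⁆ = (y : R) * (((y : R)⁻¹ * w) * e) * (w : R)⁻¹ * e⁻¹ := by
              rw [hc, commutatorElement_def]; group
          _ = ⁅(w : R), e⁆ := by rw [commutatorElement_def]; group)
    have hf : Function.Injective f := fun u v h => by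
      induction u using QuotientGroup.induction_on with
      | H y =>
      induction v using QuotientGroup.induction_on with
      | H w =>
      have hm : (y : R)⁻¹ * w ∈ B' := mul_mem (inv_mem y.2) w.2
      rw [QuotientGroup.eq, mem_subgroupOf]
      refine ⟨hm, habs _ (hB'e.2 _ hm) (hgen e heE hez _ ?_)⟩
      have h' : (y : R) * e * (y : R)⁻¹ = (w : R) * e * (w : R)⁻¹ :=
        mul_right_cancel (congrArg Subtype.val h : ⁅(y : R), e⁆ = ⁅(w : R), e⁆)
      show (y : R)⁻¹ * w * e = e * ((y : R)⁻¹ * w)
      calc (y : R)⁻¹ * w * e = (y : R)⁻¹ * ((w : R) * e * (w : R)⁻¹) * w := by group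
        _ = e * ((y : R)⁻¹ * w) := by rw [← h']; group
    rw [hB1, sq]
    exact Nat.mul_le_mul ((Nat.card_le_card_of_injective f hf).trans hZ₁c) hBE
  refine fix_of_small_centralizer hR φ ha hco (e := e) ?_
  have hle : C ⊓ centralizer ({e} : Set R) ≤ C ⊓ E := fun x hx =>
    ⟨hx.1, habs x (hCexp x hx.1) (hgen e heE hez x (mem_centralizer_singleton_iff.1 hx.2))⟩
  obtain ⟨k, hk⟩ := IsPGroup.iff_card.1 (hR.to_subgroup (C ⊓ E))
  have h2 : Nat.card ↥(C ⊓ E) < Nat.card E :=
    Set.ncard_lt_ncard (lt_of_le_of_ne inf_le_right fun h => heC (h.ge heE).1 : C ⊓ E < E)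
      (Set.toFinite _)
  rw [hk, hEc] at h2
  refine (card_le_of_le hle).trans ?_
  rw [hk]
  exact (Nat.pow_le_pow_right (Fact.out : p.Prime).pos
    (Nat.lt_succ_iff.1 ((Nat.pow_lt_pow_iff_right (Fact.out : p.Prime).one_lt).1 h2))).trans
      (pow_one p).le

end CfsgLib.OddOrder
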