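import Cfsg.Agent.OddOrder.BG9.RankThree
import Cfsg.Agent.OddOrder.BG9.MaximalPlane
import Cfsg.Agent.OddOrder.BG4.RankTwoSolvable
import Cfsg.Agent.OddOrder.TypePBasic
import Cfsg.Agent.Coprime.Abelian
import Mathlib.GroupTheory.Transfer

/-!
# BG 9.5: self-centralizing normal subgroups of rank three and uniqueness

Let `A` be a self-centralizing normal subgroup of rank at least three of a Sylow `p`-subgroup `P`
and suppose that `A` lies in two maximal subgroups. Put `P₀ = P ∩ N(P)'` and let `Y₀` be maximal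
containing `N(P₀)`. Some maximal `M ⊇ P` has a `q`-part `V` of rank three in `F(M)` outside `Y₀`,
and some `A`-invariant `p'`-subgroup `W` is outside `M`. A suitable `b ∈ A` then has
`C_V(b) ⊄ Y₀` and `C_W(b) ⊄ M`, and the maximal subgroup above `C(b)` forces `C_V(b) ≤ C(P₀)`.
-/

set_option autoImplicit false
set_option linter.style.haveILetI false
set_option linter.unusedSectionVars false

namespace CfsgLib.OddOrder

open Cfsg Subgroup
open scoped commutatorElement
open CfsgLib.ConjFunctor (IsSylowIn)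

variable {G : Type*} [Group G] [Finite G] {p : ℕ} [Fact p.Prime]

/-- BG 4.20 (a): the derived group lies in a Fitting subgroup of rank at most two. -/
theorem commutator_le_fittingOf (hG : Cfsg.IsMinSimpleOddOrder G) {M : Subgroup G} (hM : IsCoatom M)
    (hr : Cfsg.RankLE 2 ↥(Cfsg.fittingOf M)) : ⁅M, M⁆ ≤ Cfsg.fittingOf M := by
  haveI := minSimple_coatom_solvable hG hM
  have hr' : Cfsg.RankLE 2 ↥(Cfsg.fittingSubgroup M) := fun r hr0 => by
    haveI := Fact.mk hr0
    exact pRankLE_of_injective'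
      ((fittingSubgroup M).equivMapOfInjective M.subtype M.subtype_injective).toMonoidHom
      ((fittingSubgroup M).equivMapOfInjective M.subtype M.subtype_injective).injective (hr r hr0)
  have hn := BG4.isNilpotent_commutator_of_rank_two (minSimple_odd_subgroup hG M) (Or.inr hr')
  refine le_fittingOf (commutator_le_self M) ?_ ?_
  · intro g hg
    rw [← map_subtype_commutator]
    exact le_normalizer_map M.subtype ⟨⟨g, hg⟩, normalizer_eq_top (H := commutator M) ▸ mem_top _, rfl⟩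
  · haveI := hn
    rw [← map_subtype_commutator]
    exact Group.nilpotent_of_mulEquiv ((commutator M).equivMapOfInjective M.subtype M.subtype_injective)

/-- Derived elements of a normalizer that act coprimely on a cyclic subgroup centralize it. -/
theorem commutator_le_centralizer_of_isCyclic {N C : Subgroup G} [IsCyclic C]
    (hN : N ≤ normalizer (C : Set G)) : ⁅N, N⁆ ≤ centralizer (C : Set G) := by
  rw [commutator_le]
  intro g hg h hh
  have h1 : ((normalizerMonoidHom C).comp (inclusion hN)) ⁅(⟨g, hg⟩ : N), ⟨h, hh⟩⁆ = 1 := by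
    rw [map_commutatorElement, commutatorElement_eq_one_iff_mul_comm]
    exact BG4.mulAut_comm_of_cyclic _ _
  have h2 : inclusion hN ⁅(⟨g, hg⟩ : N), ⟨h, hh⟩⁆ ∈ (normalizerMonoidHom C).ker :=
    MonoidHom.mem_ker.2 h1
  rw [normalizerMonoidHom_ker, mem_subgroupOf] at h2
  exact h2

/-- A cyclic `q`-group acted on coprimely is centralized once a nontrivial element is fixed. -/
theorem le_centralizer_of_isCyclic {q : ℕ} [Fact q.Prime] {A C : Subgroup G} (hC : IsPGroup q C)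
    [IsCyclic C] (hAC : A ≤ normalizer (C : Set G)) (hcop : (Nat.card A).Coprime (Nat.card C))
    (hfix : C ⊓ centralizer (A : Set G) ≠ ⊥) : A ≤ centralizer (C : Set G) := by
  obtain ⟨n, hn⟩ := IsPGroup.iff_card.1 (hC.to_le (inf_le_left : C ⊓ centralizer (A : Set G) ≤ C))
  have hn0 : n ≠ 0 := fun h => hfix (card_eq_one.1 (by rw [hn, h, pow_zero]))
  obtain ⟨w, hw⟩ := exists_prime_orderOf_dvd_card' q (hn ▸ dvd_pow_self q hn0)
  haveI : IsMulCommutative C := IsCyclic.isMulCommutative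
  refine Coprime.le_centralizer_of_forall_prime_order hAC hcop fun v hv hvo => ?_
  have hvq : orderOf v = q := by
    obtain ⟨k, hk⟩ := IsPGroup.iff_orderOf.1 hC ⟨v, hv⟩
    rw [Subgroup.orderOf_mk] at hk
    exact (Nat.prime_dvd_prime_iff_eq hvo Fact.out).1 (hvo.dvd_of_dvd_pow (dvd_of_eq hk))
  have he := eq_of_card_eq_of_isCyclic (C := C) (H := zpowers ⟨v, hv⟩)
    (K := zpowers ⟨(w : G), w.2.1⟩)
    (by rw [Nat.card_zpowers, Nat.card_zpowers, Subgroup.orderOf_mk, Subgroup.orderOf_mk, hvq,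
      Subgroup.orderOf_coe, hw])
  have hm : (⟨v, hv⟩ : C) ∈ zpowers (⟨(w : G), w.2.1⟩ : C) := he ▸ mem_zpowers _
  obtain ⟨i, hi⟩ := mem_zpowers_iff.1 hm
  rw [show v = (w : G) ^ i from (congrArg Subtype.val hi).symm]
  exact zpow_mem (mem_inf.1 w.2).2 i

/-- Two nontrivial subgroups of a cyclic `q`-group meet. -/
theorem eq_bot_of_inf_eq_bot_of_isCyclic {q : ℕ} [Fact q.Prime] {C U₁ U₂ : Subgroup G}
    (hC : IsPGroup q C) [IsCyclic C] (h1 : U₁ ≤ C) (h2 : U₂ ≤ C) (hne : U₂ ≠ ⊥)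
    (h : U₁ ⊓ U₂ = ⊥) : U₁ = ⊥ := by
  by_contra hne1
  have hex : ∀ U : Subgroup G, U ≤ C → U ≠ ⊥ → ∃ u : U, orderOf (u : G) = q := by
    intro U hU hU1
    obtain ⟨n, hn⟩ := IsPGroup.iff_card.1 (hC.to_le hU)
    have hn0 : n ≠ 0 := fun h => hU1 (card_eq_one.1 (by rw [hn, h, pow_zero]))
    obtain ⟨w, hw⟩ := exists_prime_orderOf_dvd_card' q (hn ▸ dvd_pow_self q hn0)
    exact ⟨w, by rw [Subgroup.orderOf_coe, hw]⟩
  obtain ⟨u, hu⟩ := hex U₁ h1 hne1
  obtain ⟨v, hv⟩ := hex U₂ h2 hne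
  have he := eq_of_card_eq_of_isCyclic (C := C) (H := zpowers ⟨(u : G), h1 u.2⟩)
    (K := zpowers ⟨(v : G), h2 v.2⟩)
    (by rw [Nat.card_zpowers, Nat.card_zpowers, Subgroup.orderOf_mk, Subgroup.orderOf_mk, hu, hv])
  obtain ⟨i, hi⟩ := mem_zpowers_iff.1 (he ▸ mem_zpowers (⟨(u : G), h1 u.2⟩ : C))
  have : (u : G) ∈ U₁ ⊓ U₂ :=
    ⟨u.2, by rw [show (u : G) = (v : G) ^ i from (congrArg Subtype.val hi).symm]
             exact zpow_mem v.2 i⟩
  rw [h, mem_bot] at this
  exact (Fact.out : q.Prime).one_lt.ne (by rw [← hu, this, orderOf_one])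

/-- If `B ≅ C_p³` acts coprimely on `W ⊄ D` then so it does after passing to the centralizer of a
subgroup of `B` of order at least `p²`. -/
theorem exists_inf_centralizer_not_le {B W D : Subgroup G} (hB : Cfsg.IsElementaryAbelian p B)
    (hB3 : p ^ 3 ≤ Nat.card B) (hBW : B ≤ normalizer (W : Set G))
    (hW : (Nat.card W).Coprime p) (h : ¬ W ≤ D) :
    ∃ H : Subgroup G, H ≤ B ∧ p ^ 2 ≤ Nat.card H ∧ ¬ W ⊓ centralizer (H : Set G) ≤ D := by
  have hBp := isPGroup_of_isElementaryAbelian hB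
  haveI := hB.1
  have hp1 := (Fact.out : p.Prime).one_lt
  have hBnc : ¬ IsCyclic B :=
    not_isCyclic_of_elementary hB (le_trans (Nat.pow_le_pow_right (by omega) (by omega)) hB3)
  obtain ⟨b, hb, hb1, hbD⟩ : ∃ b ∈ B, b ≠ 1 ∧ ¬ W ⊓ centralizer ({b} : Set G) ≤ D := by
    by_contra hcon
    simp only [not_exists, not_and, not_not] at hcon
    exact h (Coprime.le_of_forall_inf_centralizer_le hBnc hBW (coprime_card_of_isPGroup hBp hW) hcon)
  obtain ⟨B₁, hB₁, hbn, hcard⟩ := exists_subgroup_avoiding hB hb hb1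
  set W₁ := W ⊓ centralizer ({b} : Set G) with hW₁
  have hBb : B ≤ centralizer ({b} : Set G) := fun a ha =>
    mem_centralizer_singleton_iff.2 (setLike_mul_comm (s := B) ha hb)
  have hBW₁ : B₁ ≤ normalizer (W₁ : Set G) := by
    intro a ha
    rw [mem_normalizer_iff]
    intro x
    exact and_congr (mem_normalizer_iff.1 (hBW (hB₁ ha)) x)
      (mem_normalizer_iff.1 (le_normalizer (hBb (hB₁ ha)) :
        a ∈ normalizer ((centralizer ({b} : Set G) : Subgroup G) : Set G)) x)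
  have hB₁e := isElementaryAbelian_mono hB₁ hB
  have hB₁2 : p ^ 2 ≤ Nat.card B₁ :=
    Nat.le_of_mul_le_mul_left (by rw [← pow_succ']; exact hB3.trans hcard) (by omega : 0 < p)
  haveI := hB₁e.1
  obtain ⟨c, hc, hc1, hcD⟩ : ∃ c ∈ B₁, c ≠ 1 ∧ ¬ W₁ ⊓ centralizer ({c} : Set G) ≤ D := by
    by_contra hcon
    simp only [not_exists, not_and, not_not] at hcon
    exact hbD (Coprime.le_of_forall_inf_centralizer_le (not_isCyclic_of_elementary hB₁e hB₁2) hBW₁
      (coprime_card_of_isPGroup (isPGroup_of_isElementaryAbelian hB₁e)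
        (PLocal.coprime_card_of_le inf_le_left hW)) hcon)
  have hle : zpowers b ⊔ zpowers c ≤ B := sup_le (zpowers_le.2 hb) (zpowers_le.2 (hB₁ hc))
  refine ⟨zpowers b ⊔ zpowers c, hle, ?_, ?_⟩
  · have hlt : zpowers b < zpowers b ⊔ zpowers c := lt_of_le_of_ne le_sup_left fun he => by
      have hcb : c ∈ zpowers b := he ▸ mem_sup_right (mem_zpowers c)
      have := eq_of_le_of_card_ge (zpowers_le.2 hcb) (by
        rw [Nat.card_zpowers, Nat.card_zpowers, orderOf_eq_prime (hB.2 b hb) hb1,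
          orderOf_eq_prime (hB.2 c (hB₁ hc)) hc1])
      exact hbn (zpowers_le.2 hc (this ▸ mem_zpowers b))
    have h1 : Nat.card (zpowers b) < Nat.card ↥(zpowers b ⊔ zpowers c) :=
      Set.ncard_lt_ncard hlt (Set.toFinite _)
    obtain ⟨k, hk⟩ := IsPGroup.iff_card.1 (hBp.to_le hle)
    rw [hk, Nat.card_zpowers, orderOf_eq_prime (hB.2 b hb) hb1] at h1
    rw [hk]
    exact Nat.pow_le_pow_right (by omega)
      ((Nat.pow_lt_pow_iff_right hp1).1 (by rwa [pow_one] : p ^ 1 < p ^ k))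
  · intro hcon
    refine hcD fun x hx => hcon ⟨hx.1.1, ?_⟩
    refine mem_centralizer_iff.2 fun y hy => ?_
    have : zpowers b ⊔ zpowers c ≤ centralizer ({x} : Set G) := sup_le
      (zpowers_le.2 (mem_centralizer_singleton_iff.2 (mem_centralizer_singleton_iff.1 hx.1.2).symm))
      (zpowers_le.2 (mem_centralizer_singleton_iff.2 (mem_centralizer_singleton_iff.1 hx.2).symm))
    exact mem_centralizer_singleton_iff.1 (this hy)

/-- Two subgroups of order at least `p²` of a group of order `p³` meet. -/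
theorem inf_ne_bot_of_card {B H H' : Subgroup G} (hB : Nat.card B = p ^ 3) (hH : H ≤ B)
    (hH' : H' ≤ B) (h : p ^ 2 ≤ Nat.card H) (h' : p ^ 2 ≤ Nat.card H') : H ⊓ H' ≠ ⊥ := by
  intro hbot
  let f : H × H' → B := fun x => ⟨x.1 * x.2, mul_mem (hH x.1.2) (hH' x.2.2)⟩
  have hf : Function.Injective f := fun x y hxy => by
    have h1 : (x.1 : G) * x.2 = y.1 * y.2 := congrArg Subtype.val hxy
    have h2 : (y.1 : G)⁻¹ * x.1 = y.2 * (x.2 : G)⁻¹ := by
      rw [eq_mul_inv_iff_mul_eq, mul_assoc, h1, inv_mul_cancel_left]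
    have h3 : (y.1 : G)⁻¹ * x.1 ∈ H ⊓ H' :=
      mem_inf.2 ⟨mul_mem (inv_mem y.1.2) x.1.2, h2 ▸ mul_mem y.2.2 (inv_mem x.2.2)⟩
    rw [hbot, mem_bot] at h3
    have h4 : x.1 = y.1 := Subtype.ext (inv_mul_eq_one.1 h3).symm
    exact Prod.ext h4 (Subtype.ext (mul_left_cancel (h4 ▸ h1)))
  have h5 := Nat.card_le_card_of_injective f hf
  rw [Nat.card_prod, hB] at h5
  have h6 := (Nat.mul_le_mul h h').trans h5
  rw [← pow_add] at h6
  exact absurd ((Nat.pow_le_pow_iff_right (Fact.out : p.Prime).one_lt).1 h6) (by omega)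

/-- `P ∩ N(P)'` is nontrivial for a Sylow subgroup of a nonabelian simple group. -/
theorem sylow_inf_commutator_normalizer_ne_bot (hG : Cfsg.IsMinSimpleOddOrder G) (P : Sylow p G)
    (hP : (P : Subgroup G) ≠ ⊥) :
    (P : Subgroup G) ⊓ ⁅normalizer ((P : Subgroup G) : Set G),
      normalizer ((P : Subgroup G) : Set G)⁆ ≠ ⊥ := by
  intro hbot
  have hc : normalizer ((P : Subgroup G) : Set G) ≤ centralizer ((P : Subgroup G) : Set G) := by
    intro g hg
    refine mem_centralizer_iff.2 fun x hx => ?_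
    have h : ⁅g, x⁆ ∈ (P : Subgroup G) ⊓ ⁅normalizer ((P : Subgroup G) : Set G),
        normalizer ((P : Subgroup G) : Set G)⁆ :=
      mem_inf.2 ⟨mul_mem ((mem_normalizer_iff.1 hg x).1 hx) (inv_mem hx),
        commutator_mem_commutator hg (le_normalizer hx)⟩
    rw [hbot, mem_bot, commutatorElement_eq_one_iff_mul_comm] at h
    exact h.symm
  have hK := MonoidHom.ker_transferSylow_isComplement' P hc
  rcases minSimple_normal_eq_bot_or_top hG (H := (MonoidHom.transferSylow P hc).ker) inferInstance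
    with h | h
  · rw [h] at hK
    exact minSimple_ne_top_of_isPGroup hG P.isPGroup' (isComplement'_bot_left.1 hK)
  · rw [h] at hK
    exact hP (isComplement'_top_left.1 hK)

/-- BG 9.5. -/
theorem inUniqueMaximal_of_scn (hG : Cfsg.IsMinSimpleOddOrder G)
    (habn : ∀ (r : ℕ) [Fact r.Prime], AbelianNormalBound r G)
    (hzj : ∀ (r : ℕ) [Fact r.Prime], ZJBound r G) (P : Sylow p G) {A : Subgroup G}
    (hA : Cfsg.IsSCN (P : Subgroup G) A) (hA3 : ¬ Cfsg.PRankLE p 2 A) :
    Cfsg.InUniqueMaximal A := by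
  by_contra hU
  have hAc := scn_isMulCommutative hA
  have hAp : IsPGroup p A := isPGroup_of_abelian_or_sylow hA
  have hAne : A ≠ ⊥ := by
    rintro rfl
    exact hA3 fun S _ _ => (card_le_card_group S).trans (by
      rw [card_bot]; exact Nat.one_le_pow _ _ (Fact.out : p.Prime).pos)
  have hA1 : ¬ Cfsg.PRankLE p 1 A := fun h => hA3 fun S h1 h2 =>
    (h S h1 h2).trans (Nat.pow_le_pow_right (Fact.out : p.Prime).pos (by omega))
  have hAt := transitivityHypothesis_of_scn hG (habn p) hA hA1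
  have hπA : Cfsg.primesNotDvd (Nat.card A) = Cfsg.primesNotDvd p :=
    primesNotDvd_card_of_isPGroup hAp hAne
  have hAsol : Group.IsSolvable A :=
    minSimple_solvable hG (minSimple_ne_top_of_isPGroup hG hAp)
  have hPt : (P : Subgroup G) ≠ ⊤ := minSimple_ne_top_of_isPGroup hG P.isPGroup'
  have hPne : (P : Subgroup G) ≠ ⊥ := fun h => hAne (le_bot_iff.1 (h ▸ hA.1))
  have hPsol : Group.IsSolvable (P : Subgroup G) := minSimple_solvable hG hPt
  have hAZ : ¬ Cfsg.RankLE 2 ↥(A ⊓ centralizer (A : Set G)) := by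
    rw [inf_eq_left.2 (le_centralizer_iff_isMulCommutative.2 hAc)]
    exact fun h => hA3 (h p Fact.out)
  have hqA : ∀ q : ℕ, q.Prime → q ≠ p → ¬ q ∣ Nat.card A := fun q hq hqp h => by
    obtain ⟨n, hn⟩ := IsPGroup.iff_card.1 hAp
    exact hqp ((Nat.prime_dvd_prime_iff_eq hq Fact.out).1 (hq.dvd_of_dvd_pow (hn ▸ h)))
  have hPπ : ∀ r : ℕ, r.Prime → r ∣ Nat.card (P : Subgroup G) → r ∣ Nat.card A := by
    intro r hr hd
    obtain ⟨n, hn⟩ := IsPGroup.iff_card.1 P.isPGroup'
    obtain ⟨m, hm⟩ := IsPGroup.iff_card.1 hAp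
    obtain rfl := (Nat.prime_dvd_prime_iff_eq hr Fact.out).1 (hr.dvd_of_dvd_pow (hn ▸ hd))
    refine hm ▸ dvd_pow_self r fun h0 => hAne (card_eq_one.1 ?_)
    rw [hm, h0, pow_zero]
  -- transitivity for `A` and for `P`
  have htr := fun (q : ℕ) (hq : q.Prime) (hqp : q ≠ p) =>
    transHyp_transitive_three hG hAt hAZ hq (hqA q hq hqp)
  have hsup := fun (q : ℕ) (hq : q.Prime) (hqp : q ≠ p) =>
    transHyp_superset hG hAt hq (hqA q hq hqp) (htr q hq hqp) (P : Subgroup G) hPt hPπ hA.1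
      ((normal_subgroupOf_iff_le_normalizer hA.1).2 hA.2.1).isSubnormal
  set NP := normalizer ((P : Subgroup G) : Set G) with hNP
  set P₀ := (P : Subgroup G) ⊓ ⁅NP, NP⁆ with hP₀
  set CP := Cfsg.piCoreOf (Cfsg.primesNotDvd (Nat.card A)) (centralizer ((P : Subgroup G) : Set G))
  have hnorm := fun (q : ℕ) (hq : q.Prime) (hqp : q ≠ p) (Q : Subgroup G)
      (hQ : Q ∈ Cfsg.maxInvSubgroups ⊤ (P : Subgroup G) {q}) =>
    transHyp_normalizer_eq (A := A) hG hPπ (hsup q hq hqp).1 hQ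
  -- the maximal subgroup `Y₀`
  have hNP₀ : NP ≤ normalizer (P₀ : Set G) := by
    intro g hg
    rw [mem_normalizer_iff]
    intro x
    refine and_congr (mem_normalizer_iff.1 hg x) ?_
    refine mem_normalizer_iff.1 ?_ x
    rw [← map_conj_eq_self_iff, Subgroup.map_commutator, map_conj_eq_self_of_mem hg]
  obtain ⟨Y₀, hY₀, hNY₀⟩ := minSimple_exists_coatom hG (minSimple_normalizer_ne_top hG
    (sylow_inf_commutator_normalizer_ne_bot hG P hPne) (ne_top_of_le_ne_top hPt inf_le_left))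
  have hPY₀ : (P : Subgroup G) ≤ Y₀ := le_normalizer.trans (hNP₀.trans hNY₀)
  have hCY₀ : centralizer (P₀ : Set G) ≤ Y₀ := (centralizer_le_normalizer _).trans hNY₀
  -- some `P`-invariant `q`-subgroup is outside `Y₀`
  obtain ⟨t, ht, htp, W₀, hW₀, hPW₀, hW₀Y⟩ : ∃ t : ℕ, t.Prime ∧ t ≠ p ∧ ∃ W₀ : Subgroup G,
      IsPiSubgroup ({t} : Set ℕ) W₀ ∧ (P : Subgroup G) ≤ normalizer (W₀ : Set G) ∧ ¬ W₀ ≤ Y₀ := by
    by_contra hcon
    simp only [not_exists, not_and, not_not] at hcon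
    have hK : Cfsg.piCoreOf (Cfsg.primesNotDvd (Nat.card A)) (centralizer (A : Set G)) ≤ Y₀ :=
      le_of_forall_invariant_primary P.isPGroup' hPsol
        (isPiSubgroup_primesNotDvd_iff.1 (hπA ▸ isPiSubgroup_piCoreOf _ _))
        ((hA.2.1.trans (normalizer_le_normalizer_centralizer_subgroup A)).trans
          (normalizer_le_normalizer_piCoreOf _ _))
        fun r hr hrp Z hZ hn => hcon r hr hrp Z hZ hn
    refine hU (inUniqueMaximal_iff.2 ⟨Y₀, hY₀, hA.1.trans hPY₀, fun L hL hAL => ?_⟩)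
    refine coatom_eq_of_invariant_le hG (habn p) (hzj p) hY₀ (hA.1.trans hPY₀) hAp hAne
      (fun Y hY hAY => ?_) hL hAL
    refine le_of_forall_invariant_primary hAp hAsol hY hAY fun r hr hrp Z hZ hAZ' => ?_
    obtain ⟨Z', hZ', hZZ'⟩ :=
      exists_maxInv_ge (show Z ∈ Cfsg.invSubgroups ⊤ A {r} from ⟨le_top, hZ, hAZ'⟩)
    obtain ⟨Q, hQ, -⟩ := exists_maxInv_ge (bot_mem_invSubgroups ⊤ (P : Subgroup G) ({r} : Set ℕ))
    obtain ⟨k, hk, rfl⟩ := htr r hr hrp Q ((hsup r hr hrp).2 hQ) Z' hZ'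
    exact hZZ'.trans ((map_mono (hcon r hr hrp Q hQ.1.2.1 hQ.1.2.2)).trans
      (map_conj_eq_self_of_mem (hK hk)).le)
  -- a maximal `M ⊇ P` with Fitting rank three at some `q`
  obtain ⟨Q₁, hQ₁, hW₀Q₁⟩ := exists_maxInv_ge
    (show W₀ ∈ Cfsg.invSubgroups ⊤ (P : Subgroup G) {t} from ⟨le_top, hW₀, hPW₀⟩)
  haveI := Fact.mk ht
  have hQ₁p : IsPGroup t Q₁ := isPGroup_of_isPiSubgroup hQ₁.1.2.1
  have hQ₁Y : ¬ Q₁ ≤ Y₀ := fun h => hW₀Y (hW₀Q₁.trans h)
  have hQ₁ne : Q₁ ≠ ⊥ := fun h => hQ₁Y (h ▸ bot_le)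
  obtain ⟨M, hM, hNQ₁⟩ := minSimple_exists_coatom hG
    (minSimple_normalizer_ne_top hG hQ₁ne (minSimple_ne_top_of_isPGroup hG hQ₁p))
  have hPM : (P : Subgroup G) ≤ M := hQ₁.1.2.2.trans hNQ₁
  obtain ⟨q, hq, hr⟩ : ∃ q : ℕ, q.Prime ∧ ¬ Cfsg.PRankLE q 2 ↥(Cfsg.fittingOf M) := by
    by_contra hcon
    simp only [not_exists, not_and, not_not] at hcon
    set F := Cfsg.fittingOf M
    set T := Cfsg.piCoreOf ({p} : Set ℕ) F with hT
    have hP₀F : P₀ ≤ F := ((hnorm t ht htp Q₁ hQ₁).1.trans (commutator_mono hNQ₁ hNQ₁)).trans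
      (commutator_le_fittingOf hG hM hcon)
    have hP₀T : P₀ ≤ T := nilpotent_le_piCoreOf (isNilpotent_fittingOf M) hP₀F
      (isPiSubgroup_of_isPGroup (P.isPGroup'.to_le inf_le_left) rfl)
    have hMT : M ≤ normalizer (T : Set G) :=
      (le_normalizer_fittingOf M).trans (normalizer_le_normalizer_piCoreOf _ _)
    refine hQ₁Y (le_trans (fun y hy => mem_centralizer_iff.2 fun x hx => ?_) hCY₀)
    have h1 : ⁅x, y⁆ ∈ Q₁ ⊓ T := by
      refine mem_inf.2 ⟨mul_mem ((mem_normalizer_iff.1 (hQ₁.1.2.2 hx.1) y).1 hy) (inv_mem hy), ?_⟩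
      have := mul_mem (hP₀T hx)
        ((mem_normalizer_iff.1 (hMT (hNQ₁ (le_normalizer hy))) x⁻¹).1 (inv_mem (hP₀T hx)))
      rw [commutatorElement_def]
      simpa [mul_assoc] using this
    rw [inf_eq_bot_of_isPiSubgroup hQ₁.1.2.1 (isPiSubgroup_piCoreOf _ _)
      (Set.disjoint_singleton.2 htp), mem_bot, commutatorElement_eq_one_iff_mul_comm] at h1
    exact h1
  haveI := Fact.mk hq
  have hqp : q ≠ p := by
    rintro rfl
    exact hU (inUniqueMaximal_of_fitting_rank hG habn hzj hM hr hAc hA3)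
  have hq2 : q ≠ 2 := by
    obtain ⟨B, hBF, hBe, hBc⟩ := exists_elementary_of_not_pRankLE hr
    obtain ⟨n, hn⟩ := IsPGroup.iff_card.1 (isPGroup_of_isElementaryAbelian hBe)
    refine minSimple_prime_ne_two_subgroup hG (H := B) (hn ▸ dvd_pow_self q fun h0 => ?_)
    rw [hn, h0, pow_zero] at hBc
    exact (Nat.one_lt_pow (by omega) hq.one_lt).not_ge hBc
  set V := Cfsg.piCoreOf ({q} : Set ℕ) (Cfsg.fittingOf M) with hV
  have hVM : V ≤ M := (piCoreOf_le _ _).trans (fittingOf_le M)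
  have hMV : M ≤ normalizer (V : Set G) :=
    (le_normalizer_fittingOf M).trans (normalizer_le_normalizer_piCoreOf _ _)
  obtain ⟨E, hEF, hE, hE3⟩ := exists_elementary_of_not_pRankLE hr
  have hEV : E ≤ V := nilpotent_le_piCoreOf (isNilpotent_fittingOf M) hEF
    (isPiSubgroup_of_isPGroup (isPGroup_of_isElementaryAbelian hE) rfl)
  -- abelian `q`-subgroups of rank three are in `U`
  have habU : ∀ B : Subgroup G, Cfsg.IsElementaryAbelian q B → q ^ 3 ≤ Nat.card B →
      Cfsg.InUniqueMaximal B := fun B hB hBc =>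
    inUniqueMaximal_of_fitting_rank hG habn hzj hM hr hB.1 (not_pRankLE_of_le le_rfl hB hBc)
  obtain ⟨Q, hQ, hVQ⟩ := exists_maxInv_ge
    (show V ∈ Cfsg.invSubgroups ⊤ (P : Subgroup G) {q} from
      ⟨le_top, isPiSubgroup_piCoreOf _ _, hPM.trans hMV⟩)
  have hQp : IsPGroup q Q := isPGroup_of_isPiSubgroup hQ.1.2.1
  have hEU := habU E hE hE3
  have hQU : Cfsg.InUniqueMaximal Q :=
    inUniqueMaximal_mono hEU (hEV.trans hVQ) (minSimple_ne_top_of_isPGroup hG hQp)
  obtain ⟨LQ, hLQ, hQLQ, -⟩ := inUniqueMaximal_iff.1 hQU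
  have hLQM : LQ = M :=
    inUniqueMaximal_eq hEU hM (hEV.trans hVM) hLQ ((hEV.trans hVQ).trans hQLQ)
  have hQM : Q ≤ M := hLQM ▸ hQLQ
  have hNQ : normalizer (Q : Set G) ≤ M := inUniqueMaximal_normalizer_le hG hQU hM hQM
  have hVY : ¬ V ≤ Y₀ := fun h => hQ₁Y (by
    have := inUniqueMaximal_eq hEU hM (hEV.trans hVM) hY₀ (hEV.trans h)
    exact (le_normalizer.trans hNQ₁).trans this.ge)
  -- every noncyclic subgroup of `Q` lies in `M` alone
  have hQnc : ∀ S : Subgroup G, S ≤ Q → ¬ IsCyclic S → Cfsg.InUniqueMaximal S := by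
    intro S hS hSnc
    obtain ⟨E₂, hE₂S, hE₂, hE₂c⟩ := exists_elementary_of_not_pRankLE
      (not_pRankLE_one_of_not_isCyclic (hQp.to_le hS) hq2 hSnc)
    refine inUniqueMaximal_mono ?_ hE₂S (minSimple_ne_top_of_isPGroup hG (hQp.to_le hS))
    by_cases hbig : ∃ B : Subgroup G, B ≤ Q ∧ E₂ ≤ B ∧ Cfsg.IsElementaryAbelian q B ∧
        q ^ 3 ≤ Nat.card B
    · obtain ⟨B, -, hE₂B, hB, hBc⟩ := hbig
      refine inUniqueMaximal_centralizing hG habn hzj (habU B hB hBc)
        (hE₂B.trans (le_centralizer_iff_isMulCommutative.2 hB.1)) ?_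
      exact not_rankLE_of_le le_rfl hE₂ hE₂c
    exfalso
    have hsmall : ∀ B : Subgroup G, B ≤ Q → E₂ ≤ B → Cfsg.IsElementaryAbelian q B → B = E₂ := by
      intro B hBQ hE₂B hB
      obtain ⟨n, hn⟩ := IsPGroup.iff_card.1 (isPGroup_of_isElementaryAbelian hB)
      have hlt : Nat.card B < q ^ 3 := not_le.1 fun h => hbig ⟨B, hBQ, hE₂B, hB, h⟩
      refine (eq_of_le_of_card_ge hE₂B (le_trans ?_ hE₂c)).symm
      rw [hn] at hlt ⊢
      exact Nat.pow_le_pow_right hq.pos
        (Nat.lt_succ_iff.1 ((Nat.pow_lt_pow_iff_right hq.one_lt).1 hlt))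
    have hE₂Q := hE₂S.trans hS
    have hcard : Nat.card E₂ = q ^ 2 := by
      obtain ⟨n, hn⟩ := IsPGroup.iff_card.1 (isPGroup_of_isElementaryAbelian hE₂)
      refine le_antisymm ?_ (by simpa using hE₂c)
      have hlt : Nat.card E₂ < q ^ 3 := not_le.1 fun h => hbig ⟨E₂, hE₂Q, le_rfl, hE₂, h⟩
      rw [hn] at hlt ⊢
      exact Nat.pow_le_pow_right hq.pos
        (Nat.lt_succ_iff.1 ((Nat.pow_lt_pow_iff_right hq.one_lt).1 hlt))
    -- then `P₀` centralizes `Q`
    refine hVY (le_trans (hVQ.trans fun y hy => mem_centralizer_iff.2 fun x hx => ?_) hCY₀)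
    set N := normalizer (Q : Set G) with hN
    haveI : Group.IsSolvable N := minSimple_solvable hG (ne_top_of_le_ne_top hM.1 hNQ)
    have hxN : x ∈ ⁅N, N⁆ := (hnorm q hq hqp Q hQ).1 hx
    rw [← map_subtype_commutator] at hxN
    obtain ⟨x', hx', rfl⟩ := hxN
    have h1 : normalizerMonoidHom Q x' = 1 := by
      refine eq_one_of_maximal_plane (R := Q) (E := E₂.subgroupOf Q) hq2
        (minSimple_odd_subgroup hG N) hQp ⟨?_, fun a ha => Subtype.ext (hE₂.2 a ha)⟩ ?_ ?_
        (normalizerMonoidHom Q) hx' ?_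
      · haveI := hE₂.1
        exact ⟨⟨fun a b => Subtype.ext (Subtype.ext (setLike_mul_comm (s := E₂) a.2 b.2))⟩⟩
      · rw [Nat.card_congr (subgroupOfEquivOfLe hE₂Q).toEquiv, hcard]
      · intro B hB hE₂B
        have := hsmall (B.map Q.subtype) (map_subtype_le _)
          ((map_subgroupOf_eq_of_le hE₂Q).ge.trans (map_mono hE₂B))
          (isElementaryAbelian_map _ hB)
        refine map_injective Q.subtype_injective ?_
        rw [this, map_subgroupOf_eq_of_le hE₂Q]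
      · obtain ⟨n, hn⟩ := IsPGroup.iff_orderOf.1 P.isPGroup' ⟨(x' : G), hx.1⟩
        refine (Nat.Coprime.pow_left n ((Nat.coprime_primes Fact.out hq).2 hqp.symm)).coprime_dvd_left
          ((orderOf_map_dvd _ x').trans ?_)
        exact dvd_of_eq
          ((Subgroup.orderOf_coe x').symm.trans ((Subgroup.orderOf_mk _ _).symm.trans hn))
    have h2 : x' ∈ (normalizerMonoidHom Q).ker := MonoidHom.mem_ker.2 h1
    rw [normalizerMonoidHom_ker, mem_subgroupOf] at h2
    exact (mem_centralizer_iff.1 h2 y hy).symm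
  have hQnc_eq : ∀ S L : Subgroup G, S ≤ Q → ¬ IsCyclic S → IsCoatom L → S ≤ L → L = M :=
    fun S L hS hSnc hL hSL => inUniqueMaximal_eq (hQnc S hS hSnc) hM (hS.trans hQM) hL hSL
  have hnoncyc : ∀ {b : G}, b ≠ 1 → ¬ IsCyclic ↥(V ⊓ centralizer ({b} : Set G)) →
      centralizer ({b} : Set G) ≤ M := fun {b} hb hnc => by
    obtain ⟨L, hL, hCL⟩ := minSimple_exists_coatom hG (minSimple_centralizer_singleton_ne_top hG hb)
    exact hQnc_eq _ L (inf_le_left.trans hVQ) hnc hL (inf_le_right.trans hCL) ▸ hCL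
  -- an elementary subgroup `A₀` of order `p³`
  obtain ⟨A₂, hA₂A, hA₂, hA₂c⟩ := exists_elementary_of_not_pRankLE hA3
  obtain ⟨A₀, hA₀A₂, hA₀c⟩ : ∃ A₀ : Subgroup G, A₀ ≤ A₂ ∧ Nat.card A₀ = p ^ 3 := by
    obtain ⟨n, hn⟩ := IsPGroup.iff_card.1 (isPGroup_of_isElementaryAbelian hA₂)
    rw [hn, show 2 + 1 = 3 from rfl, Nat.pow_le_pow_iff_right (Fact.out : p.Prime).one_lt] at hA₂c
    obtain ⟨K, hK⟩ := Sylow.exists_subgroup_card_pow_prime (G := A₂) p (hn ▸ pow_dvd_pow p hA₂c)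
    exact ⟨K.map A₂.subtype, map_subtype_le _,
      (card_map_of_injective A₂.subtype_injective).trans hK⟩
  have hA₀ := isElementaryAbelian_mono hA₀A₂ hA₂
  have hA₀A : A₀ ≤ A := hA₀A₂.trans hA₂A
  have hA₀N : ∀ {W : Subgroup G}, A ≤ normalizer (W : Set G) → A₀ ≤ normalizer (W : Set G) :=
    fun h => hA₀A.trans h
  have hAV : A ≤ normalizer (V : Set G) := (hA.1.trans hPM).trans hMV
  have hVc : (Nat.card V).Coprime p := isPiSubgroup_primesNotDvd_iff.1
    (isPiSubgroup_of_subset (by rintro r rfl; exact ⟨hq, fun h =>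
      hqp ((Nat.prime_dvd_prime_iff_eq hq Fact.out).1 h)⟩) (isPiSubgroup_piCoreOf _ _))
  have hAb : ∀ {b : G}, b ∈ A → A ≤ centralizer ({b} : Set G) := fun hb a ha =>
    mem_centralizer_singleton_iff.2 (setLike_mul_comm (s := A) ha hb)
  haveI := hAc
  have hCA : ∀ {H : Subgroup G}, H ≤ A → ∀ {b : G}, b ∈ H →
      centralizer (H : Set G) ≤ centralizer ({b} : Set G) := fun {H} _ {b} hb =>
    centralizer_le (Set.singleton_subset_iff.2 hb)
  -- a good element
  have hVnc : ¬ IsCyclic V := by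
    intro hc
    haveI := hc
    haveI : IsCyclic E := isCyclic_of_injective (inclusion hEV) (inclusion_injective _)
    exact not_isCyclic_of_elementary hE (le_trans (Nat.pow_le_pow_right hq.pos (by omega)) hE3)
      inferInstance
  -- some `A`-invariant subgroup is outside `M`
  obtain ⟨W, hW, hAW, hWM⟩ : ∃ W : Subgroup G, (Nat.card W).Coprime p ∧
      A ≤ normalizer (W : Set G) ∧ ¬ W ≤ M := by
    by_contra hcon
    simp only [not_exists, not_and, not_not] at hcon
    exact hU (inUniqueMaximal_iff.2 ⟨M, hM, hA.1.trans hPM, fun L hL hAL =>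
      coatom_eq_of_invariant_le hG (habn p) (hzj p) hM (hA.1.trans hPM) hAp hAne
        (fun Y hY hAY => hcon Y hY hAY) hL hAL⟩)
  obtain ⟨H', hH'A, hH'c, hH'M⟩ :=
    exists_inf_centralizer_not_le hA₀ hA₀c.ge (hA₀N hAW) hW hWM
  have hmeet : ∀ H : Subgroup G, H ≤ A₀ → p ^ 2 ≤ Nat.card H → ∃ b ∈ A₀, b ≠ 1 ∧
      V ⊓ centralizer (H : Set G) ≤ V ⊓ centralizer ({b} : Set G) ∧
      ¬ centralizer ({b} : Set G) ≤ M := by
    intro H hH hHc
    obtain ⟨b, hb, hb1⟩ : ∃ b ∈ H ⊓ H', b ≠ 1 := by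
      by_contra hn
      simp only [not_exists, not_and, not_not] at hn
      exact inf_ne_bot_of_card hA₀c hH hH'A hHc hH'c ((eq_bot_iff_forall _).2 hn)
    exact ⟨b, hH hb.1, hb1, inf_le_inf_left _ (hCA (hH.trans hA₀A) hb.1),
      fun h => hH'M ((inf_le_right.trans (hCA (hH'A.trans hA₀A) hb.2)).trans h)⟩
  obtain ⟨H, hHA, hHc, hHY⟩ :=
    exists_inf_centralizer_not_le hA₀ hA₀c.ge (hA₀N hAV) hVc hVY
  obtain ⟨b, hb, hb1, hHb, hbM⟩ := hmeet H hHA hHc
  set X := V ⊓ centralizer ({b} : Set G) with hX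
  have hXY : ¬ X ≤ Y₀ := fun h => hHY (hHb.trans h)
  have hXcyc : ∀ {c : G}, c ≠ 1 → ¬ centralizer ({c} : Set G) ≤ M →
      IsCyclic ↥(V ⊓ centralizer ({c} : Set G)) := fun hc h =>
    Classical.not_not.1 fun hn => h (hnoncyc hc hn)
  have hXq : ∀ {c : G}, IsPGroup q ↥(V ⊓ centralizer ({c} : Set G)) := fun {c} =>
    (hQp.to_le hVQ).to_le inf_le_left
  have hAX : ∀ {c : G}, c ∈ A → A ≤ normalizer ((V ⊓ centralizer ({c} : Set G) : Subgroup G) : Set G) :=
    fun {c} hc a ha => by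
      rw [mem_normalizer_iff]
      intro x
      exact and_congr (mem_normalizer_iff.1 (hAV ha) x)
        (mem_normalizer_iff.1 (le_normalizer (hAb hc ha) :
          a ∈ normalizer ((centralizer ({c} : Set G) : Subgroup G) : Set G)) x)
  have hXcop : ∀ {c : G}, (Nat.card A).Coprime (Nat.card ↥(V ⊓ centralizer ({c} : Set G))) :=
    coprime_card_of_isPGroup hAp (PLocal.coprime_card_of_le inf_le_left hVc)
  have hbA := hA₀A hb
  -- `A` acts faithfully on `X`
  have hXA : X ⊓ centralizer (A : Set G) = ⊥ := by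
    by_contra hne
    haveI := hXcyc hb1 hbM
    have hXfix : X ≤ centralizer (A : Set G) :=
      le_centralizer_iff.1 (le_centralizer_of_isCyclic hXq (hAX hbA) hXcop hne)
    refine hVnc ?_
    have hVX : V ≤ X := by
      refine le_inf le_rfl (le_trans ?_ (centralizer_le (Set.singleton_subset_iff.2 hbA)))
      by_contra hn
      obtain ⟨H₂, hH₂, hH₂c, hH₂n⟩ := exists_inf_centralizer_not_le hA₀ hA₀c.ge (hA₀N hAV) hVc hn
      obtain ⟨c, hc, hc1, hle, hcM⟩ := hmeet H₂ hH₂ hH₂c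
      haveI := hXcyc hc1 hcM
      refine hH₂n (hle.trans (le_centralizer_iff.1
        (le_centralizer_of_isCyclic hXq (hAX (hA₀A hc)) hXcop ?_)))
      intro hbot
      refine hne (le_bot_iff.1 (hbot ▸ le_inf (le_inf (inf_le_left.trans inf_le_left) ?_) inf_le_right))
      exact inf_le_right.trans (centralizer_le (Set.singleton_subset_iff.2 (hA₀A hc)))
    exact isCyclic_of_injective (inclusion hVX) (inclusion_injective _)
  have hXcomm : ⁅X, A⁆ = X := by
    have h := Coprime.commutator_sup_centralizer (hAX hbA) (hXcop (c := b))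
      (Or.inl hAsol)
    rwa [← hX, hXA, sup_bot_eq] at h
  -- the maximal subgroup over `C(b)`
  obtain ⟨Z, hZ, hCZ⟩ := minSimple_exists_coatom hG (minSimple_centralizer_singleton_ne_top hG hb1)
  have hZM : Z ≠ M := fun h => hbM (h ▸ hCZ)
  have hAZ' : A ≤ Z := (hAb hbA).trans hCZ
  have hKZ : centralizer (A : Set G) ≤ Z :=
    (centralizer_le (Set.singleton_subset_iff.2 hbA)).trans hCZ
  have hXZ : X ≤ Z := inf_le_right.trans hCZ
  -- normal `r`-subgroups of `Z` are in every maximal `P`-invariant one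
  have hin : ∀ (r : ℕ), r.Prime → r ≠ p → ∀ T R : Subgroup G, IsPiSubgroup ({r} : Set ℕ) T →
      Z ≤ normalizer (T : Set G) → R ∈ Cfsg.maxInvSubgroups ⊤ (P : Subgroup G) {r} → T ≤ R := by
    intro r hr hrp T R hT hZT hR
    obtain ⟨T', hT', hTT'⟩ :=
      exists_maxInv_ge (show T ∈ Cfsg.invSubgroups ⊤ A {r} from ⟨le_top, hT, hAZ'.trans hZT⟩)
    obtain ⟨k, hk, rfl⟩ := htr r hr hrp R ((hsup r hr hrp).2 hR) T' hT'
    have h := map_mono (f := (MulAut.conj k⁻¹).toMonoidHom) hTT'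
    rw [map_conj_map_conj, inv_mul_cancel, map_conj_one] at h
    exact (map_conj_eq_self_iff.2 (inv_mem (hZT (hKZ (piCoreOf_le _ _ hk))))).ge.trans h
  obtain ⟨s, hs, hsr⟩ : ∃ s : ℕ, s.Prime ∧ ¬ Cfsg.PRankLE s 2 ↥(Cfsg.fittingOf Z) := by
    by_contra hcon
    simp only [not_exists, not_and, not_not] at hcon
    set T := Cfsg.piCoreOf ({q} : Set ℕ) (Cfsg.fittingOf Z) with hT
    have hXT : X ≤ T := nilpotent_le_piCoreOf (isNilpotent_fittingOf Z)
      ((hXcomm.ge.trans (commutator_mono hXZ hAZ')).trans (commutator_le_fittingOf hG hZ hcon))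
      (isPiSubgroup_of_isPGroup hXq rfl)
    have hXne : X ≠ ⊥ := fun h => hXY (h ▸ bot_le)
    have hTne : T ≠ ⊥ := fun h => hXne (le_bot_iff.1 (h ▸ hXT))
    have hZT : Z ≤ normalizer (T : Set G) :=
      (le_normalizer_fittingOf Z).trans (normalizer_le_normalizer_piCoreOf _ _)
    have hTQ : T ≤ Q := hin q hq hqp T Q (isPiSubgroup_piCoreOf _ _) hZT hQ
    by_cases hTc : IsCyclic T
    · haveI := hTc
      obtain ⟨n, hn⟩ := IsPGroup.iff_card.1 (hQp.to_le hTQ)
      have hn0 : n ≠ 0 := fun h => hTne (card_eq_one.1 (by rw [hn, h, pow_zero]))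
      obtain ⟨w, hw⟩ := exists_prime_orderOf_dvd_card' q (hn ▸ dvd_pow_self q hn0)
      have hwo : orderOf (w : G) = q := by rw [Subgroup.orderOf_coe, hw]
      have hw1 : (w : G) ≠ 1 := fun h => hq.one_lt.ne (by rw [← hwo, h, orderOf_one])
      set Cw := centralizer ({(w : G)} : Set G) with hCw
      have hQCw : ¬ IsCyclic ↥(Q ⊓ Cw) := by
        intro hc
        obtain ⟨z, -, hzc, hzo⟩ := BG4.exists_central_orderOf_prime (N := (⊤ : Subgroup Q)) hQp (by
          haveI := (nontrivial_iff_ne_bot Q).2 (fun h => hVY (hVQ.trans (h.le.trans bot_le)))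
          exact top_ne_bot)
        have hzw : (z : G) * w = w * z :=
          (congrArg Subtype.val (mem_center_iff.1 hzc ⟨w, hTQ w.2⟩)).symm
        have hzS : (z : G) ∈ Q ⊓ Cw := ⟨z.2, mem_centralizer_singleton_iff.2 hzw⟩
        have hwS : (w : G) ∈ Q ⊓ Cw := ⟨hTQ w.2, mem_centralizer_singleton_iff.2 rfl⟩
        haveI := hc
        have he := eq_of_card_eq_of_isCyclic (C := ↥(Q ⊓ Cw)) (H := zpowers ⟨(w : G), hwS⟩)
          (K := zpowers ⟨(z : G), hzS⟩)
          (by rw [Nat.card_zpowers, Nat.card_zpowers, Subgroup.orderOf_mk, Subgroup.orderOf_mk,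
            hwo, Subgroup.orderOf_coe, hzo])
        obtain ⟨i, hi⟩ := mem_zpowers_iff.1 (he ▸ mem_zpowers (⟨(w : G), hwS⟩ : ↥(Q ⊓ Cw)))
        have hwz : (w : G) = (z : G) ^ i := (congrArg Subtype.val hi).symm
        have hQw : Q ≤ Cw := fun y hy => mem_centralizer_singleton_iff.2 (by
          rw [hwz]
          exact ((show Commute y (z : G) from
            congrArg Subtype.val (mem_center_iff.1 hzc ⟨y, hy⟩)).zpow_right i).eq)
        rw [inf_eq_left.2 hQw] at hc
        haveI := hc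
        exact hVnc (isCyclic_of_injective (inclusion hVQ) (inclusion_injective _))
      obtain ⟨L, hL, hCL⟩ := minSimple_exists_coatom hG (minSimple_centralizer_singleton_ne_top hG hw1)
      have hLM := hQnc_eq _ L inf_le_left hQCw hL (inf_le_right.trans hCL)
      have hCU : Cfsg.InUniqueMaximal Cw := inUniqueMaximal_mono (hQnc _ inf_le_left hQCw)
        inf_le_right (minSimple_centralizer_singleton_ne_top hG hw1)
      refine hZM ((hZ.le_iff.1 (fun g hg => ?_ : Z ≤ M)).resolve_left hM.1).symm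
      refine inUniqueMaximal_normalizer_le hG hCU hM (hLM ▸ hCL) ?_
      have hgw : g * w * g⁻¹ ∈ T := (mem_normalizer_iff.1 (hZT hg) w).1 w.2
      have he := eq_of_card_eq_of_isCyclic (C := T) (H := zpowers ⟨g * w * g⁻¹, hgw⟩)
        (K := zpowers w)
        (by rw [Nat.card_zpowers, Nat.card_zpowers, Subgroup.orderOf_mk, hw, ← hwo,
          ← orderOf_injective (MulAut.conj g).toMonoidHom (MulAut.conj g).injective (w : G)]
            rfl)
      have hgz : g ∈ normalizer ((zpowers (w : G) : Subgroup G) : Set G) := by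
        rw [← map_conj_eq_self_iff, MonoidHom.map_zpowers]
        have := congrArg (Subgroup.map T.subtype) he
        rwa [MonoidHom.map_zpowers, MonoidHom.map_zpowers] at this
      have hcl : centralizer ((zpowers (w : G) : Subgroup G) : Set G) = Cw :=
        le_antisymm (centralizer_le (Set.singleton_subset_iff.2 (mem_zpowers _))) fun x hx =>
          mem_centralizer_iff.2 fun y hy => by
            obtain ⟨i, rfl⟩ := mem_zpowers_iff.1 hy
            exact ((show Commute x (w : G) from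
              mem_centralizer_singleton_iff.1 hx).zpow_right i).eq.symm
      exact hcl ▸ normalizer_le_normalizer_centralizer_subgroup _ hgz
    · exact hZM (hQnc_eq T Z hTQ hTc hZ ((piCoreOf_le _ _).trans (fittingOf_le Z)))
  haveI := Fact.mk hs
  have hsp : s ≠ p := by
    rintro rfl
    exact hU (inUniqueMaximal_of_fitting_rank hG habn hzj hZ hsr hAc hA3)
  set Vz := Cfsg.piCoreOf ({s} : Set ℕ) (Cfsg.fittingOf Z) with hVz
  obtain ⟨Ez, hEzF, hEz, hEz3⟩ := exists_elementary_of_not_pRankLE hsr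
  have hEzV : Ez ≤ Vz := nilpotent_le_piCoreOf (isNilpotent_fittingOf Z) hEzF
    (isPiSubgroup_of_isPGroup (isPGroup_of_isElementaryAbelian hEz) rfl)
  have hEzU : Cfsg.InUniqueMaximal Ez := inUniqueMaximal_of_fitting_rank hG habn hzj hZ hsr hEz.1
    (not_pRankLE_of_le le_rfl hEz hEz3)
  obtain ⟨R, hR, -⟩ := exists_maxInv_ge (bot_mem_invSubgroups ⊤ (P : Subgroup G) ({s} : Set ℕ))
  have hVzR : Vz ≤ R := hin s hs hsp Vz R (isPiSubgroup_piCoreOf _ _)
    ((le_normalizer_fittingOf Z).trans (normalizer_le_normalizer_piCoreOf _ _)) hR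
  have hRU : Cfsg.InUniqueMaximal R := inUniqueMaximal_mono hEzU (hEzV.trans hVzR)
    (minSimple_ne_top_of_isPGroup hG (isPGroup_of_isPiSubgroup hR.1.2.1))
  obtain ⟨LR, hLR, hRLR, -⟩ := inUniqueMaximal_iff.1 hRU
  have hLRZ : LR = Z := inUniqueMaximal_eq hEzU hZ
    ((hEzV.trans (piCoreOf_le _ _)).trans (fittingOf_le Z)) hLR ((hEzV.trans hVzR).trans hRLR)
  have hNR : normalizer (R : Set G) ≤ Z := inUniqueMaximal_normalizer_le hG hRU hZ (hLRZ ▸ hRLR)
  -- `N(P) ≤ M ⊓ Z`
  have hNPZ : NP ≤ Z := (hnorm s hs hsp R hR).2.le.trans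
    (sup_le ((piCoreOf_le _ _).trans ((centralizer_le hA.1).trans hKZ))
      (inf_le_right.trans hNR))
  have hNPM : NP ≤ M := by
    obtain ⟨b', hb', hb'1, hnc⟩ : ∃ b' ∈ A₀, b' ≠ 1 ∧
        ¬ IsCyclic ↥(V ⊓ centralizer ({b'} : Set G)) := by
      by_contra hcon
      simp only [not_exists, not_and, not_not] at hcon
      have hVH : ¬ V ≤ centralizer (H : Set G) := fun h => by
        obtain ⟨d, hd, hd1⟩ : ∃ d ∈ H, d ≠ 1 := by
          by_contra hn
          simp only [not_exists, not_and, not_not] at hn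
          rw [(eq_bot_iff_forall H).2 hn, card_bot] at hHc
          exact (Nat.one_lt_pow two_ne_zero (Fact.out : p.Prime).one_lt).not_ge hHc
        haveI := hcon d (hHA hd) hd1
        exact hVnc (isCyclic_of_injective (inclusion (le_inf le_rfl
          (h.trans (centralizer_le (Set.singleton_subset_iff.2 hd))) :
            V ≤ V ⊓ centralizer ({d} : Set G))) (inclusion_injective _))
      obtain ⟨H₁, hH₁, hH₁c, hH₁n⟩ :=
        exists_inf_centralizer_not_le hA₀ hA₀c.ge (hA₀N hAV) hVc hVH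
      obtain ⟨d, hd, hd1⟩ : ∃ d ∈ H ⊓ H₁, d ≠ 1 := by
        by_contra hn
        simp only [not_exists, not_and, not_not] at hn
        exact inf_ne_bot_of_card hA₀c hHA hH₁ hHc hH₁c ((eq_bot_iff_forall _).2 hn)
      haveI := hcon d (hHA hd.1) hd1
      set C := V ⊓ centralizer ({d} : Set G) with hC
      have h1 : V ⊓ centralizer (H : Set G) ≤ C :=
        inf_le_inf_left _ (centralizer_le (Set.singleton_subset_iff.2 hd.1))
      have h2 : V ⊓ centralizer (H₁ : Set G) ≤ C :=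
        inf_le_inf_left _ (centralizer_le (Set.singleton_subset_iff.2 hd.2))
      have hne1 : V ⊓ centralizer (H : Set G) ≠ ⊥ := fun h => hHY (h ▸ bot_le)
      have hne2 : V ⊓ centralizer (H₁ : Set G) ≠ ⊥ := fun h => hH₁n (h ▸ bot_le)
      set D := V ⊓ centralizer (H₁ : Set G) with hD
      haveI : IsCyclic D := isCyclic_of_injective (inclusion h2) (inclusion_injective _)
      refine hH₁n (le_centralizer_iff.1 (le_centralizer_of_isCyclic (q := q)
        ((hQp.to_le hVQ).to_le inf_le_left) ?_ ?_ ?_))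
      · intro h hh
        rw [mem_normalizer_iff]
        intro x
        refine and_congr (mem_normalizer_iff.1 (hAV (hA₀A (hHA hh))) x)
          (mem_normalizer_iff.1 (le_normalizer ?_ :
            h ∈ normalizer ((centralizer (H₁ : Set G) : Subgroup G) : Set G)) x)
        exact mem_centralizer_iff.2 fun y hy =>
          setLike_mul_comm (s := A) (hA₀A (hH₁ hy)) (hA₀A (hHA hh))
      · exact coprime_card_of_isPGroup (hAp.to_le (hHA.trans hA₀A))
          (PLocal.coprime_card_of_le inf_le_left hVc)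
      · exact fun hbot => hne1 (eq_bot_of_inf_eq_bot_of_isCyclic (hQp.to_le (inf_le_left.trans hVQ))
          h1 h2 hne2 (le_bot_iff.1 (hbot ▸ le_inf inf_le_right
            (inf_le_left.trans inf_le_right))))
    exact (hnorm q hq hqp Q hQ).2.le.trans (sup_le ((piCoreOf_le _ _).trans
      ((centralizer_le (Set.singleton_subset_iff.2 (hA.1 (hA₀A hb')))).trans (hnoncyc hb'1 hnc)))
      (inf_le_right.trans hNQ))
  -- `P₀` centralizes `V ⊓ Z`
  have hVZc : IsCyclic ↥(V ⊓ Z) := Classical.not_not.1 fun hn =>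
    hZM (hQnc_eq _ Z (inf_le_left.trans hVQ) hn hZ inf_le_right)
  have hNVZ : NP ≤ normalizer ((V ⊓ Z : Subgroup G) : Set G) := by
    intro g hg
    rw [mem_normalizer_iff]
    intro x
    exact and_congr (mem_normalizer_iff.1 (hMV (hNPM hg)) x)
      (mem_normalizer_iff.1 (le_normalizer (hNPZ hg) : g ∈ normalizer (Z : Set G)) x)
  refine hXY (le_trans ?_ hCY₀)
  refine le_centralizer_iff.1 (inf_le_right.trans ((commutator_le_centralizer_of_isCyclic hNVZ).trans
    (centralizer_le (le_inf inf_le_left hXZ : X ≤ V ⊓ Z))))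

end CfsgLib.OddOrder
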