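import Cfsg.Agent.OddOrder.BG7.Hypotheses
import Cfsg.Agent.OddOrder.BG9.SCNThree

/-!
# BG 9.6: the uniqueness theorem

Unconditional forms of the BG 9 results: every elementary abelian subgroup of order at least `p³`
lies in exactly one maximal subgroup (`inUniqueMaximal_elementary`), the uniqueness theorem
(`uniqueness`), and its usual consequences.
-/

set_option autoImplicit false

namespace CfsgLib.OddOrder

open Cfsg Subgroup

variable {G : Type*} [Group G] [Finite G] {p : ℕ} [Fact p.Prime]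

/-- BG 9.2. -/
theorem inUniqueMaximal_of_centralizes (hG : Cfsg.IsMinSimpleOddOrder G) {L K : Subgroup G}
    (hL : Cfsg.InUniqueMaximal L) (hK : K ≤ centralizer (L : Set G)) (hKr : ¬ Cfsg.RankLE 1 K) :
    Cfsg.InUniqueMaximal K :=
  inUniqueMaximal_centralizing hG (fun r _ => abelianNormalBound hG r) (fun r _ => zjBound hG r)
    hL hK hKr

/-- Every elementary abelian subgroup of order at least `p³` is in `U`. -/
theorem inUniqueMaximal_elementary (hG : Cfsg.IsMinSimpleOddOrder G) {E : Subgroup G}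
    (hE : Cfsg.IsElementaryAbelian p E) (hE3 : p ^ 3 ≤ Nat.card E) :
    Cfsg.InUniqueMaximal E := by
  have hEp := isPGroup_of_isElementaryAbelian hE
  have hp2 : p ≠ 2 := by
    obtain ⟨n, hn⟩ := IsPGroup.iff_card.1 hEp
    refine minSimple_prime_ne_two_subgroup hG (H := E) (hn ▸ dvd_pow_self p fun h0 => ?_)
    rw [hn, h0, pow_zero] at hE3
    exact (Nat.one_lt_pow (by omega) (Fact.out : p.Prime).one_lt).not_ge hE3
  obtain ⟨P, hP⟩ := hEp.exists_le_sylow
  obtain ⟨A, hA, hA3⟩ := exists_scn_three P.isPGroup' hp2 (not_pRankLE_of_le hP hE hE3)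
  exact inUniqueMaximal_of_centralizer_rank hG (fun r _ => abelianNormalBound hG r)
    (fun r _ => zjBound hG r) (scn_isMulCommutative hA) hA3
    (inUniqueMaximal_of_scn hG (fun r _ => abelianNormalBound hG r) (fun r _ => zjBound hG r) P hA hA3)
    hEp (not_isCyclic_of_elementary hE
      (le_trans (Nat.pow_le_pow_right (Fact.out : p.Prime).pos (by omega)) hE3))
    (not_pRankLE_of_le (le_centralizer_iff_isMulCommutative.2 hE.1) hE hE3)

omit [Fact p.Prime] in
/-- BG 9.6: the uniqueness theorem. -/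
theorem uniqueness (hG : Cfsg.IsMinSimpleOddOrder G) {K : Subgroup G} (hK : K ≠ ⊤)
    (hK2 : ¬ Cfsg.RankLE 1 K)
    (hK3 : ¬ Cfsg.RankLE 2 K ∨ ¬ Cfsg.RankLE 2 (centralizer (K : Set G))) :
    Cfsg.InUniqueMaximal K := by
  rcases hK3 with h | h
  · obtain ⟨q, hq, E, hEK, hE, hEc⟩ := exists_elementary_of_not_rankLE h
    haveI := Fact.mk hq
    exact inUniqueMaximal_mono (inUniqueMaximal_elementary hG hE hEc) hEK hK
  · obtain ⟨q, hq, E, hEK, hE, hEc⟩ := exists_elementary_of_not_rankLE h
    haveI := Fact.mk hq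
    exact inUniqueMaximal_of_centralizes hG (inUniqueMaximal_elementary hG hE hEc)
      (le_centralizer_iff.1 hEK) hK2

omit [Fact p.Prime] in
/-- A proper subgroup of rank at least three is in `U`. -/
theorem inUniqueMaximal_of_rank_three (hG : Cfsg.IsMinSimpleOddOrder G) {K : Subgroup G}
    (hK : K ≠ ⊤) (h : ¬ Cfsg.RankLE 2 K) : Cfsg.InUniqueMaximal K := by
  obtain ⟨q, hq, E, hEK, hE, hEc⟩ := exists_elementary_of_not_rankLE h
  haveI := Fact.mk hq
  exact inUniqueMaximal_mono (inUniqueMaximal_elementary hG hE hEc) hEK hK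

/-- A proper subgroup of `p`-rank at least three is in `U`. -/
theorem inUniqueMaximal_of_pRank_three (hG : Cfsg.IsMinSimpleOddOrder G) {K : Subgroup G}
    (hK : K ≠ ⊤) (h : ¬ Cfsg.PRankLE p 2 K) : Cfsg.InUniqueMaximal K :=
  inUniqueMaximal_of_rank_three hG hK fun h2 => h (h2 p Fact.out)

end CfsgLib.OddOrder
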