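import Cfsg.Agent.OddOrder.BG7.PConstraint
import Cfsg.Agent.OddOrder.BG7.SCN
import Cfsg.Agent.Techniques.PPrimePFusion
import Cfsg.Agent.ConjFunctor.Basic
import Cfsg.Agent.PLocal.Thompson
import Cfsg.Agent.OddOrder.BG4.RankTwoSolvable

/-!
# Frattini factorisations inside the solvable subgroups of an ambient group

* `exists_pPrimePCore_part`: for a Sylow `p`-subgroup `S` of a solvable `X`, the part `T` of `S` in
  `O_{p',p}(X)`: `X = O_{p'}(X) N_X(T)`, and every `T`-invariant `p'`-subgroup of `X` lies in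
  `O_{p'}(X)`.
* `ZJBound`: the hypothesis `X = O_{p'}(X) N_X(Z(J(S)))` (BG 6.2, S1458).
* facts on `Z(J(S))`, and `rank ≤ 2` gives `T = S`.
-/

set_option autoImplicit false
set_option linter.style.haveILetI false

namespace CfsgLib.OddOrder

open Cfsg Subgroup
open CfsgLib.ConjFunctor (IsSylowIn exists_isSylowIn_ge)

variable {G : Type*} [Group G] [Finite G] {p : ℕ} [Fact p.Prime]

/-- `X = O_{p'}(X) N_X(Z(J(S)))` for every proper `X` and Sylow `p`-subgroup `S` of `X`: the
consequence of S1458 for all proper subgroups. -/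
abbrev ZJBound (p : ℕ) (G : Type*) [Group G] : Prop :=
  ∀ X S : Subgroup G, X ≠ ⊤ → IsSylowIn p S X →
    X ≤ Cfsg.piCoreOf (Cfsg.primesNotDvd p) X ⊔
      (X ⊓ normalizer (Cfsg.centerThompsonOf p S : Set G))

theorem centerThompsonOf_le (p : ℕ) (S : Subgroup G) : Cfsg.centerThompsonOf p S ≤ S :=
  inf_le_left.trans (PLocal.thompsonSubgroupOf_le p S)

theorem normalizer_le_normalizer_centerThompsonOf (p : ℕ) (S : Subgroup G) :
    normalizer (S : Set G) ≤ normalizer (Cfsg.centerThompsonOf p S : Set G) := by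
  intro g hg
  have hJ := PLocal.normalizer_le_normalizer_thompsonSubgroupOf p S hg
  rw [mem_normalizer_iff_map_conj_eq] at hJ ⊢
  show (Cfsg.centerThompsonOf p S).map (MulAut.conj g).toMonoidHom = _
  rw [Cfsg.centerThompsonOf, PLocal.map_inf_centralizer (MulAut.conj g).injective]
  exact (congrArg (fun J : Subgroup G => J ⊓ centralizer (J : Set G)) hJ :)

theorem centerThompsonOf_ne_bot {S : Subgroup G} (hS : IsPGroup p S) (hne : S ≠ ⊥) :
    Cfsg.centerThompsonOf p S ≠ ⊥ := by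
  set J := Cfsg.thompsonSubgroupOf p S with hJ
  have hJne : J ≠ ⊥ := by
    intro hbot
    obtain ⟨A, hA⟩ := PLocal.maxEAIn_nonempty p S
    haveI : Nontrivial S := (nontrivial_iff_ne_bot S).2 hne
    obtain ⟨n, hn⟩ := IsPGroup.iff_card.1 hS
    have hdvd : p ∣ Nat.card S := by
      rw [hn]
      refine dvd_pow_self p fun h0 => ?_
      rw [h0, pow_zero] at hn
      exact hne (card_eq_one.1 hn)
    obtain ⟨x, hx⟩ := exists_prime_orderOf_dvd_card' p hdvd
    have hxp : (x : G) ^ p = 1 := by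
      rw [← hx]; exact congrArg Subtype.val (pow_orderOf_eq_one x)
    have h1 := hA.2.2 (zpowers (x : G)) (zpowers_le.2 x.2)
      ⟨inferInstance, fun a ha => by
        obtain ⟨i, rfl⟩ := mem_zpowers_iff.1 ha
        rw [← zpow_natCast, ← zpow_mul, mul_comm, zpow_mul, zpow_natCast, hxp, one_zpow]⟩
    have hAbot : A = ⊥ := le_bot_iff.1 (hbot ▸ PLocal.le_thompsonSubgroupOf hA)
    rw [hAbot, card_bot, Nat.card_zpowers, Subgroup.orderOf_coe, hx] at h1
    exact absurd h1 (not_le.2 (Fact.out : p.Prime).one_lt)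
  haveI : Nontrivial J := (nontrivial_iff_ne_bot J).2 hJne
  have hJp : IsPGroup p J := hS.to_le (PLocal.thompsonSubgroupOf_le p S)
  haveI := hJp.center_nontrivial
  obtain ⟨z, hz⟩ := exists_ne (1 : center J)
  intro hbot
  apply hz
  have : ((z : J) : G) ∈ Cfsg.centerThompsonOf p S := by
    refine mem_inf.2 ⟨(z : J).2, mem_centralizer_iff.2 fun j hj => ?_⟩
    exact congrArg Subtype.val (mem_center_iff.1 z.2 ⟨j, hj⟩)
  rw [hbot, mem_bot] at this
  exact Subtype.ext (Subtype.ext this)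

/-- The part in `O_{p',p}` of a Sylow subgroup of a solvable group, and the `p'`-subgroups it
normalizes. -/
theorem le_pPrimeCore_of_sylow_inf [Group.IsSolvable G] (S : Sylow p G) {Y : Subgroup G}
    (hY : (Nat.card Y).Coprime p)
    (hn : (S : Subgroup G) ⊓ Cfsg.pPrimePCore p G ≤ normalizer (Y : Set G)) :
    Y ≤ Cfsg.pPrimeCore p G := by
  set T := (S : Subgroup G) ⊓ Cfsg.pPrimePCore p G with hT
  have hTp : IsPGroup p T := S.isPGroup'.to_le inf_le_left
  refine le_pPrimeCore_of_selfcentralizing hTp inf_le_right (fun x hx k hk => ?_) hY hn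
  set K := Cfsg.pPrimePCore p G
  let P : Sylow p K := (hTp.comap_subtype (K := K)).toSylow
    (Techniques.not_dvd_relIndex_inf_of_normal S K)
  have hPT : (P : Subgroup K).map K.subtype = T := map_subgroupOf_eq_of_le inf_le_right
  have hcon := PLocal.isPConstrained_of_isPSolvable
    (PLocal.isPSolvable_of_isSolvable (p := p) (G := G)) P
  rw [hPT] at hcon
  have hxK : x ∈ K := hcon hx
  have hxp : IsPGroup p (zpowers x) := by
    rintro ⟨y, hy⟩
    obtain ⟨i, rfl⟩ := mem_zpowers_iff.1 hy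
    refine ⟨k, Subtype.ext ?_⟩
    show (x ^ i) ^ (p ^ k) = 1
    rw [← zpow_natCast, ← zpow_mul, mul_comm, zpow_mul, zpow_natCast, hk, one_zpow]
  have hsup : IsPGroup p ↥(T ⊔ zpowers x) :=
    hTp.to_sup_of_normal_left' hxp (zpowers_le.2 (centralizer_le_normalizer _ hx))
  have hsupK : T ⊔ zpowers x ≤ K := sup_le inf_le_right (zpowers_le.2 hxK)
  have hmax : (T ⊔ zpowers x).subgroupOf K = (P : Subgroup K) :=
    P.is_maximal' (hsup.comap_subtype (K := K)) (comap_mono le_sup_left)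
  have h2 := congrArg (Subgroup.map K.subtype) hmax
  rw [map_subgroupOf_eq_of_le hsupK, hPT] at h2
  exact h2 ▸ mem_sup_right (mem_zpowers x)

/-- For a Sylow `p`-subgroup `S` of a solvable subgroup `X`: its part `T` in `O_{p',p}(X)`. -/
theorem exists_pPrimePCore_part {X S : Subgroup G} (hX : Group.IsSolvable X)
    (hS : IsSylowIn p S X) :
    ∃ T : Subgroup G, T ≤ S ∧ S ≤ normalizer (T : Set G) ∧
      X ≤ Cfsg.piCoreOf (Cfsg.primesNotDvd p) X ⊔ (X ⊓ normalizer (T : Set G)) ∧
      (∀ D : Subgroup G, D ≤ S → D.subgroupOf X ≤ Cfsg.pPrimePCore p X → D ≤ T) ∧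
      ∀ Y : Subgroup G, Y ≤ X → (Nat.card Y).Coprime p → T ≤ normalizer (Y : Set G) →
        Y ≤ Cfsg.piCoreOf (Cfsg.primesNotDvd p) X := by
  haveI := hX
  let S' : Sylow p X := (hS.2.1.comap_subtype (K := X)).toSylow hS.2.2
  have hS' : (S' : Subgroup X) = S.subgroupOf X := rfl
  set T' := (S' : Subgroup X) ⊓ Cfsg.pPrimePCore p X with hT'
  set T := T'.map X.subtype with hT
  have hTS : T ≤ S := by
    rw [← map_subgroupOf_eq_of_le hS.1]
    exact map_mono inf_le_left
  have hTX : T ≤ X := map_subtype_le _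
  have hTsub : T.subgroupOf X = T' := comap_map_eq_self_of_injective X.subtype_injective _
  have hN : ∀ x : X, x ∈ normalizer (T' : Set X) → (x : G) ∈ normalizer (T : Set G) := fun x hx =>
    le_normalizer_map X.subtype ⟨x, hx, rfl⟩
  refine ⟨T, hTS, fun s hs => hN ⟨s, hS.1 hs⟩ (Techniques.sylow_le_normalizer_inf S' hs), ?_, ?_, ?_⟩
  · have h := map_mono (f := X.subtype) (Techniques.normalizer_inf_pPrimePCore_sup S').ge
    rw [← MonoidHom.range_eq_map, range_subtype, Subgroup.map_sup,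
      ← piCoreOf_primesNotDvd_eq] at h
    refine h.trans (sup_le ?_ le_sup_left)
    refine le_trans ?_ le_sup_right
    rintro _ ⟨x, hx, rfl⟩
    exact ⟨x.2, hN x hx⟩
  · intro D hDS hD
    rw [← map_subgroupOf_eq_of_le (hDS.trans hS.1)]
    exact map_mono (le_inf (hS' ▸ comap_mono hDS) hD)
  · intro Y hYX hY hTY
    refine le_piCoreOf_of_subgroupOf_le hYX
      (le_pPrimeCore_of_sylow_inf S' (coprime_card_subgroupOf hY) ?_)
    rw [← hT', ← hTsub]
    exact subgroupOf_le_normalizer_subgroupOf hTY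

/-- The maximal `p'`-subgroup of `X` invariant under a Sylow `p`-subgroup. -/
theorem le_piCoreOf_of_sylow_invariant {X S Y : Subgroup G} (hX : Group.IsSolvable X)
    (hS : IsSylowIn p S X) (hYX : Y ≤ X) (hY : (Nat.card Y).Coprime p)
    (hn : S ≤ normalizer (Y : Set G)) : Y ≤ Cfsg.piCoreOf (Cfsg.primesNotDvd p) X := by
  obtain ⟨T, hTS, -, -, -, h⟩ := exists_pPrimePCore_part hX hS
  exact h Y hYX hY (hTS.trans hn)

omit [Finite G] in
theorem pRankLE_of_injective' {H : Type*} [Group H] {k : ℕ} (f : H →* G)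
    (hf : Function.Injective f) (h : Cfsg.PRankLE p k G) : Cfsg.PRankLE p k H :=
  BG4.pRankLE_of_injective f hf h

/-- A Sylow subgroup of `X` and `X` have the same `p`-rank bound. -/
theorem pRankLE_of_sylow {X S : Subgroup G} {k : ℕ} (hS : IsSylowIn p S X)
    (h : Cfsg.PRankLE p k S) : Cfsg.PRankLE p k X := by
  by_contra hn
  obtain ⟨A, hAX, hA, hAc⟩ := exists_elementary_of_not_pRankLE hn
  obtain ⟨a, -, ha⟩ := hS.exists_cj_le hAX (isPGroup_of_isElementaryAbelian hA)
  refine not_pRankLE_of_le ha (isElementaryAbelian_map _ hA) ?_ h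
  rwa [ConjFunctor.card_cj]

/-- In rank at most two a Sylow `p`-subgroup lies in `O_{p',p}`. -/
theorem subgroupOf_le_pPrimePCore_of_rank_two {X S : Subgroup G} (hX : Group.IsSolvable X)
    (hodd : Odd (Nat.card X)) (hp2 : p ≠ 2) (hS : IsSylowIn p S X)
    (hr : Cfsg.PRankLE p 2 S) : S.subgroupOf X ≤ Cfsg.pPrimePCore p X := by
  haveI := hX
  have hOd : ¬ p ∣ Nat.card (Cfsg.pPrimeCore p X) :=
    PLocal.not_dvd_iff_coprime.mp (PLocal.coprime_card_pPrimeCore p X)
  obtain ⟨-, hidx, -⟩ := BG4.rank_two_core (G := X ⧸ Cfsg.pPrimeCore p X) (p := p)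
    (hodd.of_dvd_nat (Subgroup.card_quotient_dvd_card _)) hp2
    (BG4.pRankLE_quotient_coprime _ hOd (pRankLE_of_sylow hS hr))
    (PLocal.pPrimeCore_quotient_pPrimeCore_eq_bot p X)
  haveI : (Cfsg.pPrimePCore p X).Normal := PLocal.pPrimePCoreNormal p X
  have hidx' : ¬ p ∣ (Cfsg.pPrimePCore p X).index := by
    unfold Cfsg.pPrimePCore
    rwa [index_comap_of_surjective _ (QuotientGroup.mk'_surjective _)]
  intro x hx
  have hSp : IsPGroup p (S.subgroupOf X) := hS.2.1.comap_subtype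
  obtain ⟨k, hk⟩ := hSp ⟨x, hx⟩
  rw [← QuotientGroup.eq_one_iff, ← orderOf_eq_one_iff]
  refine Nat.eq_one_of_dvd_coprimes
    (((Fact.out : p.Prime).coprime_iff_not_dvd.2 hidx').pow_left k) ?_ ?_
  · refine orderOf_dvd_of_pow_eq_one ?_
    rw [← QuotientGroup.mk_pow, show x ^ p ^ k = 1 from congrArg Subtype.val hk, QuotientGroup.mk_one]
  · rw [index_eq_card]
    exact orderOf_dvd_natCard _

end CfsgLib.OddOrder
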