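import Cfsg.Agent.OddOrder.BG7.Superset
import Cfsg.Agent.OddOrder.BG7.Transitive
import Cfsg.Agent.OddOrder.BG7.SCN
import Cfsg.Agent.OddOrder.BG9.LocalFrattini
import Mathlib.NumberTheory.Padics.PadicVal.Basic

/-!
# BG 9.1, 9.2: noncyclic elementary abelian subgroups and uniqueness

Conditional on `AbelianNormalBound` (S1457) and `ZJBound` (S1458).
-/

set_option autoImplicit false
set_option linter.style.haveILetI false

namespace CfsgLib.OddOrder

open Cfsg Subgroup
open CfsgLib.ConjFunctor (IsSylowIn exists_isSylowIn_ge)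

variable {G : Type*} [Group G] [Finite G] {p : ℕ} [Fact p.Prime]

/-- In a `p`-group the normalizer of a proper subgroup is larger. -/
theorem lt_normalizer_inf_of_lt {R P : Subgroup G} (hP : IsPGroup p P) (h : R < P) :
    R < normalizer (R : Set G) ⊓ P := by
  haveI := hP.isNilpotent
  refine lt_of_le_of_ne (le_inf le_normalizer h.le) fun heq => ?_
  have hlt : R.subgroupOf P < ⊤ :=
    lt_top_iff_ne_top.2 fun h' => h.not_ge (subgroupOf_eq_top.1 h')
  have h2 := Group.normalizerCondition_of_isNilpotent _ hlt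
  rw [← subgroupOf_normalizer_eq h.le] at h2
  rw [show (normalizer (R : Set G)).subgroupOf P = (normalizer (R : Set G) ⊓ P).subgroupOf P by
    rw [inf_subgroupOf_right], ← heq] at h2
  exact lt_irrefl _ h2

/-- For odd `p`, a `p`-group of rank at least three has a self-centralizing normal subgroup of
rank at least three. -/
theorem exists_scn_three {P : Subgroup G} (hP : IsPGroup p P) (hp2 : p ≠ 2)
    (hr : ¬ Cfsg.PRankLE p 2 P) :
    ∃ A : Subgroup G, Cfsg.IsSCN P A ∧ ¬ Cfsg.PRankLE p 2 A := by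
  obtain ⟨A₀, hA₀n, hA₀, hA₀c⟩ : ∃ A₀ : Subgroup P, A₀.Normal ∧
      Cfsg.IsElementaryAbelian p A₀ ∧ p ^ 3 ≤ Nat.card A₀ := by
    by_contra hn
    simp only [not_exists, not_and, not_le] at hn
    refine hr (BG4.pRankLE_two_of_normal_le hp2 hP fun A hA hAe => ?_)
    obtain ⟨n, hn'⟩ := BG4.card_elementary_eq_pow hAe.2
    have := hn A hA hAe
    rw [hn'] at this ⊢
    have h3 := (Nat.pow_lt_pow_iff_right (Fact.out : p.Prime).one_lt).1 this
    exact Nat.pow_le_pow_right (Fact.out : p.Prime).pos (by omega)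
  obtain ⟨A, hA₀A, ⟨hAn, hAc⟩, hmax⟩ :=
    (Set.toFinite {A : Subgroup P | A.Normal ∧ IsMulCommutative A}).exists_le_maximal
      (show A₀ ∈ {A : Subgroup P | A.Normal ∧ IsMulCommutative A} from ⟨hA₀n, hA₀.1⟩)
  haveI := hAn
  have hAC : A ≤ centralizer (A : Set P) := le_centralizer_iff_isMulCommutative.2 hAc
  have hCeq : centralizer (A : Set P) = A := by
    refine le_antisymm ?_ hAC
    by_contra hn
    haveI : (centralizer (A : Set P)).Normal := Subgroup.normal_centralizer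
    haveI : ((centralizer (A : Set P)).map (QuotientGroup.mk' A)).Normal :=
      (inferInstance : (centralizer (A : Set P)).Normal).map _ (QuotientGroup.mk'_surjective _)
    have hne : (centralizer (A : Set P)).map (QuotientGroup.mk' A) ≠ ⊥ := by
      intro h
      rw [Subgroup.map_eq_bot_iff, QuotientGroup.ker_mk'] at h
      exact hn h
    obtain ⟨xbar, hxC, hxc, hxo⟩ :=
      BG4.exists_central_orderOf_prime (hP.to_quotient A) hne
    obtain ⟨x, hx, rfl⟩ := hxC
    set B := A ⊔ zpowers x with hB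
    have hBn : B.Normal := by
      have he : B = ((zpowers x).map (QuotientGroup.mk' A)).comap (QuotientGroup.mk' A) := by
        rw [comap_map_eq, QuotientGroup.ker_mk', sup_comm]
      haveI : ((zpowers x).map (QuotientGroup.mk' A)).Normal := by
        rw [MonoidHom.map_zpowers]
        refine ⟨fun n hn g => ?_⟩
        have hc : g * n = n * g := mem_center_iff.1 (zpowers_le.2 hxc hn) g
        rwa [hc, mul_inv_cancel_right]
      rw [he]
      infer_instance
    have hBc : IsMulCommutative B := PLocal.isMulCommutative_sup hAc inferInstance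
      (le_centralizer_iff.1 (zpowers_le.2 hx))
    have hle : B ≤ A := hmax ⟨hBn, hBc⟩ le_sup_left
    have hxA : x ∈ A := hle (mem_sup_right (mem_zpowers x))
    rw [show QuotientGroup.mk' A x = 1 from (QuotientGroup.eq_one_iff x).2 hxA, orderOf_one] at hxo
    exact (Fact.out : p.Prime).one_lt.ne hxo
  refine ⟨A.map P.subtype, ⟨map_subtype_le _, ?_, ?_⟩, ?_⟩
  · rw [← normal_subgroupOf_iff_le_normalizer (map_subtype_le _),
      show (A.map P.subtype).subgroupOf P = A from
        comap_map_eq_self_of_injective P.subtype_injective A]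
    exact hAn
  · refine le_antisymm ?_ ?_
    · rintro x ⟨hxP, hx⟩
      refine ⟨⟨x, hxP⟩, ?_, rfl⟩
      rw [SetLike.mem_coe, ← hCeq, mem_centralizer_iff]
      exact fun a ha => Subtype.ext (mem_centralizer_iff.1 hx a ⟨a, ha, rfl⟩)
    · rintro _ ⟨a, ha, rfl⟩
      refine ⟨a.2, mem_centralizer_iff.2 ?_⟩
      rintro _ ⟨b, hb, rfl⟩
      exact congrArg Subtype.val (mem_centralizer_iff.1 (hAC ha) b hb)
  · exact not_pRankLE_of_le (map_mono hA₀A) (isElementaryAbelian_map _ hA₀)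
      (by rw [card_map_of_injective P.subtype_injective]; exact hA₀c)

/-- If `A` acts coprimely and every `A`-invariant subgroup of prime-power order (prime to `p`) is in
`D`, so is every `A`-invariant `p'`-subgroup. -/
theorem le_of_forall_invariant_primary {A Y D : Subgroup G} (hA : IsPGroup p A)
    (hAsol : Group.IsSolvable A) (hY : (Nat.card Y).Coprime p) (hAY : A ≤ normalizer (Y : Set G))
    (h : ∀ q : ℕ, q.Prime → q ≠ p → ∀ Z : Subgroup G, IsPiSubgroup {q} Z →
      A ≤ normalizer (Z : Set G) → Z ≤ D) : Y ≤ D := by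
  refine relIndex_eq_one.1 (Nat.eq_one_iff_not_exists_prime_dvd.2 fun q hq hdvd => ?_)
  haveI := Fact.mk hq
  have hqY : q ∣ Nat.card Y := hdvd.trans (relIndex_dvd_card D Y)
  have hqp : q ≠ p := by
    rintro rfl
    exact hq.not_dvd_one (hY ▸ Nat.dvd_gcd hqY dvd_rfl)
  obtain ⟨S, hS⟩ := Coprime.exists_invariant_sylow hAY (coprime_card_of_isPGroup hA hY)
    (Or.inl hAsol) q
  have hSD := h q hq hqp _ (isPiSubgroup_of_isPGroup (S.isPGroup'.map _) rfl) hS
  have hdiv : (D.subgroupOf Y).index ∣ (S : Subgroup Y).index :=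
    index_dvd_of_le fun x hx => hSD ⟨x, hx, rfl⟩
  exact S.not_dvd_index (hdvd.trans hdiv)

theorem inUniqueMaximal_aux_sylow (hG : Cfsg.IsMinSimpleOddOrder G) (hp2 : p ≠ 2)
    (habn : AbelianNormalBound p G) (hzj : ZJBound p G) {M B P H : Subgroup G} (hM : IsCoatom M)
    (hP : IsSylowIn p P M) (hBP : B ≤ P) (hB1 : B ≠ ⊥)
    (hnorm : ∀ Y : Subgroup G, (Nat.card Y).Coprime p → B ≤ normalizer (Y : Set G) → Y ≤ M)
    (hH : IsCoatom H) (hPH : P ≤ H) : H = M := by
  set π := Cfsg.primesNotDvd p with hπ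
  set D := Cfsg.piCoreOf π M with hD
  set E := Cfsg.piCoreOf π H with hE
  have hsolM := minSimple_coatom_solvable hG hM
  have hsolH := minSimple_coatom_solvable hG hH
  have hDc : (Nat.card D).Coprime p := isPiSubgroup_primesNotDvd_iff.1 (isPiSubgroup_piCoreOf _ _)
  have hPD : ∀ Y : Subgroup G, (Nat.card Y).Coprime p → P ≤ normalizer (Y : Set G) → Y ≤ D :=
    fun Y hY hn => le_piCoreOf_of_sylow_invariant hsolM hP (hnorm Y hY (hBP.trans hn)) hY hn
  have hEc : (Nat.card E).Coprime p := isPiSubgroup_primesNotDvd_iff.1 (isPiSubgroup_piCoreOf _ _)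
  have hED : E ≤ D := hPD E hEc (hPH.trans (le_normalizer_piCoreOf _ _))
  have hEM : E ≤ M := hED.trans (piCoreOf_le _ _)
  have hP1 : P ≠ ⊥ := fun h => hB1 (le_bot_iff.1 (h ▸ hBP))
  set Z := Cfsg.centerThompsonOf p P with hZdef
  have hZne : Z ≠ ⊥ := centerThompsonOf_ne_bot hP.2.1 hP1
  have hDne_norm : D ≠ ⊥ → normalizer (D : Set G) = M := fun h =>
    minSimple_normalizer_eq_coatom_of_le hG hM h (piCoreOf_le _ _) (le_normalizer_piCoreOf _ _)
  have hDperm : ∀ g : G, P ≤ normalizer ((D.map (MulAut.conj g).toMonoidHom : Subgroup G) : Set G) →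
      g ∈ normalizer (D : Set G) := by
    intro g hg
    rw [← map_conj_eq_self_iff]
    exact eq_of_le_of_card_ge (hPD _ (by rwa [card_map_conj]) hg) (card_map_conj D g).ge
  have hZN : D = ⊥ → normalizer (Z : Set G) = M := by
    intro h
    refine (hM.le_iff.1 ?_).resolve_left (minSimple_normalizer_ne_top hG hZne
      (minSimple_ne_top_of_isPGroup hG (hP.2.1.to_le (centerThompsonOf_le p P))))
    exact (hzj M P hM.1 hP).trans (sup_le ((le_bot_iff.2 h).trans bot_le) inf_le_right)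
  have hPM' : P ≤ normalizer (D : Set G) := hP.1.trans (le_normalizer_piCoreOf _ _)
  have hNP : normalizer (P : Set G) ≤ M := by
    by_cases hD1 : D = ⊥
    · exact (normalizer_le_normalizer_centerThompsonOf p P).trans (hZN hD1).le
    · rw [← hDne_norm hD1]
      intro g hg
      refine hDperm g ?_
      rw [← map_conj_normalizer, ← map_conj_eq_self_iff.2 hg]
      exact map_mono hPM'
  -- `P` is a Sylow subgroup of `G`, hence of `H`
  obtain ⟨Q, hPQ, hQ⟩ := exists_isSylowIn_ge (p := p) (le_top : P ≤ ⊤) hP.2.1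
  have hPQ' : P = Q := by
    by_contra hne
    have hlt := lt_normalizer_inf_of_lt hQ.2.1 (lt_of_le_of_ne hPQ hne)
    exact hlt.ne (hP.eq_of_le hlt.le (inf_le_left.trans hNP) (hQ.2.1.to_le inf_le_right)).symm
  have hPH' : IsSylowIn p P H := (hPQ' ▸ hQ).of_le hPH le_top
  suffices hle : H ≤ M from ((hH.le_iff.1 hle).resolve_left hM.1).symm
  by_cases hD1 : D = ⊥
  · exact (hzj H P hH.1 hPH').trans (sup_le hEM (inf_le_right.trans (hZN hD1).le))
  obtain ⟨T, hTP, hPT, hfac, hTmax, -⟩ := exists_pPrimePCore_part hsolH hPH'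
  refine hfac.trans (sup_le hEM (inf_le_right.trans ?_))
  by_cases hr : Cfsg.PRankLE p 2 P
  · have : T = P := le_antisymm hTP (hTmax P le_rfl (subgroupOf_le_pPrimePCore_of_rank_two hsolH
      (minSimple_odd_subgroup hG H) hp2 hPH' hr))
    rw [this]
    exact hNP
  obtain ⟨A, hA, hA3⟩ := exists_scn_three hP.2.1 hp2 hr
  have hAc := scn_isMulCommutative hA
  have hAp : IsPGroup p A := hP.2.1.to_le hA.1
  have hAne : A ≠ ⊥ := by
    rintro rfl
    exact hA3 fun S _ _ => (card_le_card_group S).trans (by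
      rw [card_bot]; exact Nat.one_le_pow _ _ (Fact.out : p.Prime).pos)
  have hA1 : ¬ Cfsg.PRankLE p 1 A := fun h => hA3 fun S h1 h2 =>
    (h S h1 h2).trans (Nat.pow_le_pow_right (Fact.out : p.Prime).pos (by omega))
  let PG : Sylow p G := (hPQ' ▸ hQ).toSylowTop
  have hAt : Cfsg.TransitivityHypothesis A := transitivityHypothesis_of_scn hG habn (P := PG) hA hA1
  have hπA : Cfsg.primesNotDvd (Nat.card A) = π := primesNotDvd_card_of_isPGroup hAp hAne
  have hK : Cfsg.piCoreOf π (centralizer (A : Set G)) ≤ D :=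
    hPD _ (isPiSubgroup_primesNotDvd_iff.1 (isPiSubgroup_piCoreOf _ _))
      ((hA.2.1.trans (normalizer_le_normalizer_centralizer_subgroup A)).trans
        (normalizer_le_normalizer_piCoreOf _ _))
  have hAT : A ≤ T := by
    refine hTmax A hA.1 (habn H hH.1 ((hPH'.2.1.comap_subtype (K := H)).toSylow hPH'.2.2) _
      (comap_mono hA.1) ?_ (subgroupOf_le_normalizer_subgroupOf hA.2.1))
    exact ⟨⟨fun a b => Subtype.ext (Subtype.ext (setLike_mul_comm (s := A) a.2 b.2))⟩⟩
  have hcentA : A ⊓ centralizer (A : Set G) = A :=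
    inf_eq_left.2 (le_centralizer_iff_isMulCommutative.2 hAc)
  have hAZ : ¬ Cfsg.RankLE 2 ↥(A ⊓ centralizer (A : Set G)) := by
    rw [hcentA]; exact fun h => hA3 (h p Fact.out)
  have hall : ∀ Y : Subgroup G, (Nat.card Y).Coprime p → A ≤ normalizer (Y : Set G) → Y ≤ D := by
    intro Y hY hAY
    refine le_of_forall_invariant_primary hAp
      (minSimple_solvable hG (minSimple_ne_top_of_isPGroup hG hAp)) hY hAY fun q hq hqp W hW hAW => ?_
    have hqA : ¬ q ∣ Nat.card A := by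
      obtain ⟨n, hn⟩ := IsPGroup.iff_card.1 hAp
      rw [hn]
      exact fun h => hqp ((Nat.prime_dvd_prime_iff_eq hq Fact.out).1 (hq.dvd_of_dvd_pow h))
    have htr := transHyp_transitive_three hG hAt hAZ hq hqA
    have hPπ : ∀ r : ℕ, r.Prime → r ∣ Nat.card P → r ∣ Nat.card A := by
      intro r hr' hd
      obtain ⟨n, hn⟩ := IsPGroup.iff_card.1 hP.2.1
      obtain ⟨m, hm⟩ := IsPGroup.iff_card.1 hAp
      rw [hn] at hd
      have := (Nat.prime_dvd_prime_iff_eq hr' Fact.out).1 (hr'.dvd_of_dvd_pow hd)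
      subst this
      refine hm ▸ dvd_pow_self r fun h0 => hAne (card_eq_one.1 ?_)
      rw [hm, h0, pow_zero]
    obtain ⟨-, hsub⟩ := transHyp_superset hG hAt hq hqA htr P
      (minSimple_ne_top_of_isPGroup hG hP.2.1) hPπ hA.1
      ((normal_subgroupOf_iff_le_normalizer hA.1).2 hA.2.1).isSubnormal
    obtain ⟨Q₀, hQ₀, -⟩ := exists_maxInv_ge (bot_mem_invSubgroups ⊤ P ({q} : Set ℕ))
    obtain ⟨W', hW', hWW'⟩ :=
      exists_maxInv_ge (show W ∈ Cfsg.invSubgroups ⊤ A {q} from ⟨le_top, hW, hAW⟩)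
    have hqπ : ({q} : Set ℕ) ⊆ π := by
      rintro r rfl
      exact ⟨hq, fun h => hqp ((Nat.prime_dvd_prime_iff_eq hq Fact.out).1 h)⟩
    have hQ₀D : Q₀ ≤ D := hPD Q₀
      (isPiSubgroup_primesNotDvd_iff.1 (isPiSubgroup_of_subset hqπ hQ₀.1.2.1)) hQ₀.1.2.2
    obtain ⟨k, hk, e⟩ := htr Q₀ (hsub hQ₀) W' hW'
    rw [hπA] at hk
    refine hWW'.trans (e.le.trans ((map_mono hQ₀D).trans (le_of_eq ?_)))
    exact map_conj_eq_self_of_mem (hK hk)
  intro g hg
  rw [← hDne_norm hD1, ← map_conj_eq_self_iff]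
  refine eq_of_le_of_card_ge (hall _ (by rwa [card_map_conj]) ?_) (card_map_conj D g).ge
  refine hAT.trans ?_
  rw [← map_conj_normalizer, ← map_conj_eq_self_iff.2 hg]
  exact map_mono (hTP.trans hPM')

/-- The core of BG 9.1: if every `p'`-subgroup normalized by a nontrivial `p`-subgroup `B ≤ M`
lies in `M`, then `M` is the only maximal subgroup containing `B`. -/
theorem coatom_eq_of_invariant_le (hG : Cfsg.IsMinSimpleOddOrder G) (habn : AbelianNormalBound p G)
    (hzj : ZJBound p G) {M B : Subgroup G} (hM : IsCoatom M) (hBM : B ≤ M)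
    (hBp : IsPGroup p B) (hB1 : B ≠ ⊥)
    (hnorm : ∀ Y : Subgroup G, (Nat.card Y).Coprime p → B ≤ normalizer (Y : Set G) → Y ≤ M)
    {L : Subgroup G} (hL : IsCoatom L) (hBL : B ≤ L) : L = M := by
  have hp2 : p ≠ 2 := by
    obtain ⟨n, hn⟩ := IsPGroup.iff_card.1 hBp
    refine minSimple_prime_ne_two_subgroup hG (H := B) (hn ▸ dvd_pow_self p fun h0 => hB1 ?_)
    exact card_eq_one.1 (by rw [hn, h0, pow_zero])
  by_contra hne
  set S : Set (Subgroup G × Subgroup G) :=
    {z | IsCoatom z.1 ∧ z.1 ≠ M ∧ B ≤ z.2 ∧ IsSylowIn p z.2 (z.1 ⊓ M)}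
  obtain ⟨R₀, hBR₀, hR₀⟩ := exists_isSylowIn_ge (p := p) (le_inf hBL hBM) hBp
  obtain ⟨⟨H, R⟩, ⟨hH, hHM, hBR, hR⟩, hmax⟩ := (Set.toFinite S).exists_maximalFor
    (fun z => Nat.card z.2) S ⟨(L, R₀), hL, hne, hBR₀, hR₀⟩
  obtain ⟨P, hRP, hP⟩ := exists_isSylowIn_ge (p := p) (hR.1.trans inf_le_right) hR.2.1
  by_cases hRPe : R = P
  · exact hHM (inUniqueMaximal_aux_sylow hG hp2 habn hzj hM hP (hBR.trans hRP) hB1 hnorm hH
      (hRPe ▸ hR.1.trans inf_le_left))
  set R₁ := normalizer (R : Set G) ⊓ P with hR₁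
  have hlt : R < R₁ := lt_normalizer_inf_of_lt hP.2.1 (lt_of_le_of_ne hRP hRPe)
  have hR₁M : R₁ ≤ M := inf_le_right.trans hP.1
  have hup : ∀ X : Subgroup G, X ≠ ⊤ → R₁ ≤ X → X ≤ M := by
    intro X hX hle
    obtain ⟨K, hK, hXK⟩ := minSimple_exists_coatom hG hX
    suffices hKM : K = M from hKM ▸ hXK
    by_contra hKM
    obtain ⟨R₂, h12, hR₂⟩ := exists_isSylowIn_ge (p := p) (le_inf (hle.trans hXK) hR₁M)
      (hP.2.1.to_le inf_le_right)
    have h1 : Nat.card R < Nat.card R₂ :=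
      Set.ncard_lt_ncard (hlt.trans_le h12 : R < R₂) (Set.toFinite _)
    exact h1.not_ge (hmax (j := (K, R₂)) ⟨hK, hKM, (hBR.trans hlt.le).trans h12, hR₂⟩ h1.le)
  have hR1 : R ≠ ⊥ := fun h => hB1 (le_bot_iff.1 (h ▸ hBR))
  have hRp := hR.2.1
  have hNR : normalizer (R : Set G) ≤ M :=
    hup _ (minSimple_normalizer_ne_top hG hR1 (minSimple_ne_top_of_isPGroup hG hRp)) inf_le_left
  obtain ⟨Q, hRQ, hQ⟩ := exists_isSylowIn_ge (p := p) (hR.1.trans inf_le_left) hRp
  have hRQe : R = Q := by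
    by_contra hne'
    have h2 := lt_normalizer_inf_of_lt hQ.2.1 (lt_of_le_of_ne hRQ hne')
    exact h2.ne (hR.eq_of_le h2.le (le_inf (inf_le_right.trans hQ.1) (inf_le_left.trans hNR))
      (hQ.2.1.to_le inf_le_right)).symm
  have hRH : IsSylowIn p R H := hRQe ▸ hQ
  have hEM : Cfsg.piCoreOf (Cfsg.primesNotDvd p) H ≤ M :=
    hnorm _ (isPiSubgroup_primesNotDvd_iff.1 (isPiSubgroup_piCoreOf _ _))
      ((hBR.trans hRH.1).trans (le_normalizer_piCoreOf _ _))
  have hNZ : normalizer (Cfsg.centerThompsonOf p R : Set G) ≤ M :=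
    hup _ (minSimple_normalizer_ne_top hG (centerThompsonOf_ne_bot hRp hR1)
      (minSimple_ne_top_of_isPGroup hG (hRp.to_le (centerThompsonOf_le p R))))
      (inf_le_left.trans (normalizer_le_normalizer_centerThompsonOf p R))
  have hle : H ≤ M := (hzj H R hH.1 hRH).trans (sup_le hEM (inf_le_right.trans hNZ))
  exact hHM ((hH.le_iff.1 hle).resolve_left hM.1).symm

/-- BG 9.1. -/
theorem inUniqueMaximal_of_noncyclic (hG : Cfsg.IsMinSimpleOddOrder G)
    (habn : AbelianNormalBound p G) (hzj : ZJBound p G) {M B : Subgroup G} (hM : IsCoatom M)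
    (hBM : B ≤ M) (hB : Cfsg.IsElementaryAbelian p B) (hBnc : ¬ IsCyclic B)
    (h : (∀ b ∈ B, b ≠ 1 → centralizer ({b} : Set G) ≤ M) ∨
      ∀ Y ∈ Cfsg.invSubgroups ⊤ B (Cfsg.primesNotDvd p), Y ≤ M) :
    Cfsg.InUniqueMaximal B := by
  have hnorm : ∀ Y : Subgroup G, (Nat.card Y).Coprime p → B ≤ normalizer (Y : Set G) → Y ≤ M := by
    intro Y hY hBY
    rcases h with h | h
    · haveI := hB.1
      exact Coprime.le_of_forall_inf_centralizer_le hBnc hBY
        (coprime_card_of_isPGroup (isPGroup_of_isElementaryAbelian hB) hY)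
        fun b hb hb1 => inf_le_right.trans (h b hb hb1)
    · exact h Y ⟨le_top, isPiSubgroup_primesNotDvd_iff.2 hY, hBY⟩
  exact inUniqueMaximal_iff.2 ⟨M, hM, hBM,
    fun L hL hBL => coatom_eq_of_invariant_le hG habn hzj hM hBM
      (isPGroup_of_isElementaryAbelian hB) (by rintro rfl; exact hBnc inferInstance) hnorm hL hBL⟩

/-- BG 9.2, with the two hypotheses for every prime. -/
theorem inUniqueMaximal_centralizing (hG : Cfsg.IsMinSimpleOddOrder G)
    (habn : ∀ (r : ℕ) [Fact r.Prime], AbelianNormalBound r G)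
    (hzj : ∀ (r : ℕ) [Fact r.Prime], ZJBound r G) {L K : Subgroup G} (hL : Cfsg.InUniqueMaximal L)
    (hK : K ≤ centralizer (L : Set G)) (hKr : ¬ Cfsg.RankLE 1 K) : Cfsg.InUniqueMaximal K := by
  obtain ⟨M, hM, hLM, -⟩ := inUniqueMaximal_iff.1 hL
  have hL1 : L ≠ ⊥ := by
    rintro rfl
    refine hM.1 (top_le_iff.1 fun g _ => ?_)
    obtain ⟨N, hN, hgN⟩ := minSimple_exists_coatom hG
      (minSimple_ne_top_of_isMulCommutative hG (H := zpowers g) inferInstance)
    exact inUniqueMaximal_eq hL hM bot_le hN bot_le ▸ hgN (mem_zpowers g)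
  have hCM : centralizer (L : Set G) ≤ M :=
    (centralizer_le_normalizer _).trans (inUniqueMaximal_normalizer_le hG hL hM hLM)
  obtain ⟨q, hq, B, hBK, hB, hBc⟩ := exists_elementary_of_not_rankLE hKr
  haveI := Fact.mk hq
  refine inUniqueMaximal_mono (inUniqueMaximal_of_noncyclic hG (habn q) (hzj q) hM
    ((hBK.trans hK).trans hCM) hB (not_isCyclic_of_elementary hB hBc) (Or.inl fun b hb hb1 => ?_))
    hBK (ne_top_of_le_ne_top (minSimple_centralizer_subgroup_ne_top hG hL1) hK)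
  obtain ⟨N, hN, hCN⟩ := minSimple_exists_coatom hG (minSimple_centralizer_singleton_ne_top hG hb1)
  refine inUniqueMaximal_eq hL hM hLM hN (le_trans (fun l hl => ?_) hCN) ▸ hCN
  exact mem_centralizer_singleton_iff.2 (mem_centralizer_iff.1 (hK (hBK hb)) l hl)

end CfsgLib.OddOrder
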