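import Cfsg.Agent.OddOrder.BG8.PCoreCase
import Cfsg.Agent.IsolatedP.RankOne

/-!
# BG 9.3, 9.4: uniqueness spreads between `p`-subgroups of rank at least three

Conditional on `AbelianNormalBound` and `ZJBound` for all primes.
-/

set_option autoImplicit false
set_option linter.style.haveILetI false

namespace CfsgLib.OddOrder

open Cfsg Subgroup
open CfsgLib.ConjFunctor (IsSylowIn exists_isSylowIn_ge)

variable {G : Type*} [Group G] [Finite G] {p : ℕ} [Fact p.Prime]

/-- A noncyclic `p`-group, `p` odd, contains an elementary abelian group of order at least `p²`. -/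
theorem not_pRankLE_one_of_not_isCyclic {B : Subgroup G} (hB : IsPGroup p B) (hp2 : p ≠ 2)
    (hnc : ¬ IsCyclic B) : ¬ Cfsg.PRankLE p 1 B := by
  intro hr
  apply hnc
  refine IsolatedP.isCyclic_of_card_pow_eq_one_le_prime p hp2 _ B rfl hB ?_
  rcases subsingleton_or_nontrivial B with hs | hs
  · refine le_trans ?_ (Fact.out : p.Prime).one_lt.le
    exact Finite.card_le_one_iff_subsingleton.2 inferInstance
  obtain ⟨z, -, hzc, hzo⟩ := BG4.exists_central_orderOf_prime hB (N := (⊤ : Subgroup B)) top_ne_bot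
  have hall : ∀ y : B, y ^ p = 1 → y ∈ zpowers z := by
    intro y hy
    have hE : Cfsg.IsElementaryAbelian p (closure ({z, y} : Set B)) := by
      refine PLocal.isElementaryAbelian_closure ?_ ?_
      · rintro a (rfl | rfl) b (rfl | rfl)
        · rfl
        · exact (mem_center_iff.1 hzc _).symm
        · exact mem_center_iff.1 hzc _
        · rfl
      · rintro a (rfl | rfl)
        exacts [hzo ▸ pow_orderOf_eq_one _, hy]
    have hc := hr _ hE.1 hE.2
    rw [pow_one] at hc
    have hle : zpowers z ≤ closure ({z, y} : Set B) := zpowers_le.2 (subset_closure (by simp))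
    rw [eq_of_le_of_card_ge hle (by rw [Nat.card_zpowers, hzo]; exact hc)]
    exact subset_closure (by simp)
  refine le_trans (Nat.card_le_card_of_injective (fun y : {y : B // y ^ p = 1} =>
    (⟨y.1, hall y.1 y.2⟩ : zpowers z)) (fun a b h => Subtype.ext (congrArg Subtype.val h :))) ?_
  rw [Nat.card_zpowers, hzo]

theorem pow_le_pow_of_le {a b : ℕ} (h : a ≤ b) : p ^ a ≤ p ^ b :=
  Nat.pow_le_pow_right (Fact.out : p.Prime).pos h

theorem ne_top_of_isElementaryAbelian (hG : Cfsg.IsMinSimpleOddOrder G) {A : Subgroup G}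
    (hA : Cfsg.IsElementaryAbelian p A) : A ≠ ⊤ :=
  minSimple_ne_top_of_isMulCommutative hG hA.1

/-- If an elementary abelian subgroup of order at least `p³` is a uniqueness subgroup, so is every
other one. -/
theorem inUniqueMaximal_elementary_spread (hG : Cfsg.IsMinSimpleOddOrder G)
    (habn : ∀ (r : ℕ) [Fact r.Prime], AbelianNormalBound r G)
    (hzj : ∀ (r : ℕ) [Fact r.Prime], ZJBound r G) {A E : Subgroup G}
    (hA : Cfsg.IsElementaryAbelian p A) (hA3 : p ^ 3 ≤ Nat.card A) (hAU : Cfsg.InUniqueMaximal A)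
    (hE : Cfsg.IsElementaryAbelian p E) (hE3 : p ^ 3 ≤ Nat.card E) :
    Cfsg.InUniqueMaximal E := by
  have hAp := isPGroup_of_isElementaryAbelian hA
  have hp2 : p ≠ 2 := by
    obtain ⟨n, hn⟩ := IsPGroup.iff_card.1 hAp
    refine minSimple_prime_ne_two_subgroup hG (H := A) (hn ▸ dvd_pow_self p fun h0 => ?_)
    rw [hn, h0, pow_zero] at hA3
    exact (Nat.one_lt_pow (by omega) (Fact.out : p.Prime).one_lt).not_ge hA3
  obtain ⟨P, hP⟩ := hAp.exists_le_sylow
  obtain ⟨Q, hQ⟩ := (isPGroup_of_isElementaryAbelian hE).exists_le_sylow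
  obtain ⟨g, hg⟩ := MulAction.exists_smul_eq G Q P
  set E' := E.map (MulAut.conj g).toMonoidHom with hE'
  have hE'P : E' ≤ P := by
    rw [← hg, Sylow.coe_subgroup_smul]
    exact map_mono hQ
  suffices hE'U : Cfsg.InUniqueMaximal E' by
    have := inUniqueMaximal_map_conj hE'U g⁻¹
    rwa [hE', map_conj_map_conj, inv_mul_cancel, map_conj_one] at this
  -- a normal elementary subgroup of order `p²` of `P`
  obtain ⟨B₀, hB₀n, hB₀e, hB₀c⟩ : ∃ B₀ : Subgroup P, B₀.Normal ∧ Cfsg.IsElementaryAbelian p B₀ ∧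
      Nat.card B₀ = p ^ 2 := by
    have hr : ¬ Cfsg.PRankLE p 2 (P : Subgroup G) := not_pRankLE_of_le hP hA hA3
    by_contra hn
    simp only [not_exists, not_and] at hn
    refine hr (BG4.pRankLE_two_of_normal_le hp2 P.isPGroup' fun B hB hBe => ?_)
    by_contra hlt
    haveI := hB
    obtain ⟨B', hB'n, hB'le, hB'c⟩ :=
      BG4.exists_normal_card_le P.isPGroup' B 2 (le_of_lt (not_le.1 hlt))
    exact hn B' hB'n (isElementaryAbelian_mono hB'le hBe) hB'c
  haveI := hB₀n
  set C := centralizer (B₀ : Set (P : Subgroup G)) with hC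
  have hCi : C.index ≤ p := BG4.index_centralizer_le P.isPGroup' hB₀e.2 hB₀c.le
  haveI : C.Normal := Subgroup.normal_centralizer
  have hcut : ∀ X : Subgroup G, X ≤ P → p ^ 3 ≤ Nat.card X →
      p ^ 2 ≤ Nat.card ↥((X.subgroupOf P ⊓ C).map (P : Subgroup G).subtype) := by
    intro X hX hXc
    rw [card_map_of_injective (P : Subgroup G).subtype_injective]
    have h1 := PLocal.card_mul_relIndex
      (A := X.subgroupOf P ⊓ C) (B := X.subgroupOf P) inf_le_left
    rw [inf_relIndex_left, Nat.card_congr (subgroupOfEquivOfLe hX).toEquiv] at h1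
    have h2 : C.relIndex (X.subgroupOf P) ≤ p := le_trans (Nat.le_of_dvd
      (Nat.pos_of_ne_zero C.index_ne_zero_of_finite) (relIndex_dvd_index_of_normal C _)) hCi
    refine Nat.le_of_mul_le_mul_right ?_ (Fact.out : p.Prime).pos
    rw [← pow_succ]
    exact hXc.trans (h1 ▸ Nat.mul_le_mul_left _ h2)
  set B := B₀.map (P : Subgroup G).subtype with hB
  set A' := (A.subgroupOf P ⊓ C).map (P : Subgroup G).subtype with hA'
  set E'' := (E'.subgroupOf P ⊓ C).map (P : Subgroup G).subtype with hE''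
  have hA'A : A' ≤ A := by
    rw [← map_subgroupOf_eq_of_le hP]; exact map_mono inf_le_left
  have hE''E : E'' ≤ E' := by
    rw [← map_subgroupOf_eq_of_le hE'P]; exact map_mono inf_le_left
  have hcent : ∀ X : Subgroup P, X.map (P : Subgroup G).subtype ≤ P → X ≤ C →
      X.map (P : Subgroup G).subtype ≤ centralizer (B : Set G) := by
    intro X _ hX
    rintro _ ⟨x, hx, rfl⟩
    rw [mem_centralizer_iff]
    rintro _ ⟨b, hb, rfl⟩
    exact congrArg Subtype.val (mem_centralizer_iff.1 (hX hx) b hb)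
  have hA'B : A' ≤ centralizer (B : Set G) := hcent _ (map_subtype_le _) inf_le_right
  have hE''B : E'' ≤ centralizer (B : Set G) := hcent _ (map_subtype_le _) inf_le_right
  have hA'U : Cfsg.InUniqueMaximal A' :=
    inUniqueMaximal_centralizing hG habn hzj hAU
      (hA'A.trans (le_centralizer_iff_isMulCommutative.2 hA.1))
      (not_rankLE_of_le le_rfl (isElementaryAbelian_mono hA'A hA) (hcut A hP hA3))
  have hBU : Cfsg.InUniqueMaximal B :=
    inUniqueMaximal_centralizing hG habn hzj hA'U (le_centralizer_iff.1 hA'B)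
      (not_rankLE_of_le le_rfl (isElementaryAbelian_map _ hB₀e)
        (by rw [hB, card_map_of_injective (P : Subgroup G).subtype_injective, hB₀c]))
  have hEe : Cfsg.IsElementaryAbelian p E' := isElementaryAbelian_map _ hE
  have hE''U : Cfsg.InUniqueMaximal E'' :=
    inUniqueMaximal_centralizing hG habn hzj hBU hE''B
      (not_rankLE_of_le le_rfl (isElementaryAbelian_mono hE''E hEe)
        (hcut E' hE'P (by rw [hE', card_map_conj]; exact hE3)))
  exact inUniqueMaximal_mono hE''U hE''E (ne_top_of_isElementaryAbelian hG hEe)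

/-- BG 9.3. -/
theorem inUniqueMaximal_of_centralizer_rank (hG : Cfsg.IsMinSimpleOddOrder G)
    (habn : ∀ (r : ℕ) [Fact r.Prime], AbelianNormalBound r G)
    (hzj : ∀ (r : ℕ) [Fact r.Prime], ZJBound r G) {A B : Subgroup G} (hAc : IsMulCommutative A)
    (hA3 : ¬ Cfsg.PRankLE p 2 A) (hAU : Cfsg.InUniqueMaximal A) (hBp : IsPGroup p B)
    (hBnc : ¬ IsCyclic B) (hB3 : ¬ Cfsg.PRankLE p 2 ↥(centralizer (B : Set G))) :
    Cfsg.InUniqueMaximal B := by
  obtain ⟨A₁, hA₁A, hA₁, hA₁c⟩ := exists_elementary_of_not_pRankLE hA3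
  obtain ⟨E, hEC, hE, hEc⟩ := exists_elementary_of_not_pRankLE hB3
  have hA₁U : Cfsg.InUniqueMaximal A₁ :=
    inUniqueMaximal_centralizing hG habn hzj hAU
      (hA₁A.trans (le_centralizer_iff_isMulCommutative.2 hAc))
      (not_rankLE_of_le le_rfl hA₁ ((pow_le_pow_of_le (by omega)).trans hA₁c))
  have hEU := inUniqueMaximal_elementary_spread hG habn hzj hA₁ hA₁c hA₁U hE hEc
  have hp2 : p ≠ 2 := by
    obtain ⟨n, hn⟩ := IsPGroup.iff_card.1 hBp
    refine minSimple_prime_ne_two_subgroup hG (H := B) (hn ▸ dvd_pow_self p fun h0 => hBnc ?_)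
    rw [card_eq_one.1 (show Nat.card B = 1 by rw [hn, h0, pow_zero])]
    infer_instance
  exact inUniqueMaximal_centralizing hG habn hzj hEU (le_centralizer_iff.1 hEC)
    fun h => not_pRankLE_one_of_not_isCyclic hBp hp2 hBnc (h p Fact.out)

/-- BG 9.4. -/
theorem inUniqueMaximal_of_fitting_rank (hG : Cfsg.IsMinSimpleOddOrder G)
    (habn : ∀ (r : ℕ) [Fact r.Prime], AbelianNormalBound r G)
    (hzj : ∀ (r : ℕ) [Fact r.Prime], ZJBound r G) {M A : Subgroup G} (hM : IsCoatom M)
    (hF : ¬ Cfsg.PRankLE p 2 ↥(Cfsg.fittingOf M)) (hAc : IsMulCommutative A)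
    (hA3 : ¬ Cfsg.PRankLE p 2 A) : Cfsg.InUniqueMaximal A := by
  obtain ⟨E₀, hE₀F, hE₀, hE₀c⟩ := exists_elementary_of_not_pRankLE hF
  obtain ⟨E₁, hE₁A, hE₁, hE₁c⟩ := exists_elementary_of_not_pRankLE hA3
  obtain ⟨U, hU, hUc, hUU⟩ : ∃ U : Subgroup G, Cfsg.IsElementaryAbelian p U ∧
      p ^ 3 ≤ Nat.card U ∧ Cfsg.InUniqueMaximal U := by
    by_cases hFp : IsPGroup p ↥(Cfsg.fittingOf M)
    · obtain ⟨P, hFP, hP⟩ := exists_isSylowIn_ge (p := p) (fittingOf_le M) hFp
      have hp2 : p ≠ 2 := by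
        obtain ⟨n, hn⟩ := IsPGroup.iff_card.1 (isPGroup_of_isElementaryAbelian hE₀)
        refine minSimple_prime_ne_two_subgroup hG (H := E₀) (hn ▸ dvd_pow_self p fun h0 => ?_)
        rw [hn, h0, pow_zero] at hE₀c
        exact (Nat.one_lt_pow (by omega) (Fact.out : p.Prime).one_lt).not_ge hE₀c
      obtain ⟨S, hS, hS3⟩ :=
        exists_scn_three hP.2.1 hp2 (not_pRankLE_of_le (hE₀F.trans hFP) hE₀ hE₀c)
      obtain ⟨U, hUS, hU, hUc⟩ := exists_elementary_of_not_pRankLE hS3
      refine ⟨U, hU, hUc, ?_⟩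
      exact inUniqueMaximal_centralizing hG habn hzj
        ((pCore_scn_inUniqueMaximal hG (habn p) (hzj p) hM hFp hP).2 S hS hS3).2
        (hUS.trans (le_centralizer_iff_isMulCommutative.2 (scn_isMulCommutative hS)))
        (not_rankLE_of_le le_rfl hU ((pow_le_pow_of_le (by omega)).trans hUc))
    · exact ⟨E₀, hE₀, hE₀c, inUniqueMaximal_centralizing hG habn hzj
        (nonPCore_inUniqueMaximal hG hM hE₀F hE₀ hE₀c hFp)
        (le_centralizer_iff.1 inf_le_right)
        (not_rankLE_of_le le_rfl hE₀ ((pow_le_pow_of_le (by omega)).trans hE₀c))⟩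
  exact inUniqueMaximal_mono (inUniqueMaximal_elementary_spread hG habn hzj hU hUc hUU hE₁ hE₁c)
    hE₁A (minSimple_ne_top_of_isMulCommutative hG hAc)

end CfsgLib.OddOrder
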